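/-
Elements of odd order acting on vector spaces over the field with three elements with small commutator space.
-/
import Mathlib
import Cfsg.Prelude.Def_Solvable

set_option autoImplicit false
set_option linter.style.haveILetI false

namespace Cfsg.Agent.CubicThree

open Module

theorem fact_three : Fact (Nat.Prime 3) := ⟨Nat.prime_three⟩

theorem zmod3_pow13 : ∀ x : ZMod 3, x ^ 13 = 1 → x = 1 := by decide

theorem zmod3_neg : ∀ x : ZMod 3, x = -x → x = 0 := by decide

theorem zmod3_neg_one_not_sq : ∀ x : ZMod 3, (-1 : ZMod 3) ^ 3 ≠ x * x := by decide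

theorem three_smul_zero {M : Type*} [AddCommGroup M] [Module (ZMod 3) M] (v : M) : v + v + v = 0 := by
  have h : (3 : ℕ) • v = 0 := by
    rw [← Nat.cast_smul_eq_nsmul (ZMod 3), ZMod.natCast_self, zero_smul]
  rwa [succ_nsmul, two_nsmul] at h

theorem nat_smul_eq_self {M : Type*} [AddCommGroup M] [Module (ZMod 3) M] {n : ℕ} (hn : n % 3 = 1) (v : M) :
    n • v = v := by
  rw [← Nat.cast_smul_eq_nsmul (ZMod 3), ← Nat.mod_add_div n 3, hn, Nat.cast_add, Nat.cast_mul,
    ZMod.natCast_self, zero_mul, add_zero, Nat.cast_one, one_smul]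

theorem card_units_end (Y : Type*) [AddCommGroup Y] [Module (ZMod 3) Y] [Finite Y] :
    Nat.card (Module.End (ZMod 3) Y)ˣ =
      ∏ i : Fin (finrank (ZMod 3) Y), (3 ^ finrank (ZMod 3) Y - 3 ^ (i : ℕ)) := by
  haveI := fact_three
  haveI : FiniteDimensional (ZMod 3) Y := Module.Finite.of_finite
  let bas := Module.finBasis (ZMod 3) Y
  rw [Nat.card_congr (Units.mapEquiv (LinearMap.toMatrixAlgEquiv bas).toMulEquiv).toEquiv]
  rw [Matrix.card_GL_field, ZMod.card]

variable {G : Type*} [Group G] [Finite G] {W : Type*} [AddCommGroup W] [Module (ZMod 3) W] [Finite W]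
  (ρ : Representation (ZMod 3) G W)

omit [Finite G] [Finite W] in
theorem rho_mul (g h : G) (v : W) : ρ (g * h) v = ρ g (ρ h v) := by rw [map_mul]; rfl

omit [Finite G] [Finite W] in
theorem rho_inv (g : G) (v : W) : ρ g⁻¹ (ρ g v) = v := by
  rw [← rho_mul, inv_mul_cancel, map_one]; rfl

/-- The commutator space of an element. -/
def comSpace (g : G) : Submodule (ZMod 3) W := LinearMap.range (ρ g - 1)

omit [Finite G] [Finite W] in
theorem mem_comSpace (g : G) (v : W) : ρ g v - v ∈ comSpace ρ g := ⟨v, rfl⟩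

omit [Finite W] in
theorem fpf_comSpace {g : G} (hg : (orderOf g).Coprime 3) {v : W} (hv : v ∈ comSpace ρ g) (hf : ρ g v = v) :
    v = 0 := by
  obtain ⟨w, rfl⟩ := hv
  set u := (ρ g - 1) w with hu
  have hw : ∀ n : ℕ, ρ (g ^ n) w = w + n • u := by
    intro n
    induction n with
    | zero => simp
    | succ n ih =>
      rw [pow_succ', rho_mul, ih, map_add, map_nsmul, hf, succ_nsmul,
        show ρ g w = w + u from (add_sub_cancel w (ρ g w)).symm]
      abel
  have h1 := hw (orderOf g)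
  rw [pow_orderOf_eq_one, map_one] at h1
  have h2 : orderOf g • u = 0 := by
    rw [show (1 : Module.End (ZMod 3) W) w = w from rfl] at h1
    exact add_eq_left.1 h1.symm
  have h3 : orderOf g % 3 = 1 ∨ orderOf g % 3 = 2 := by
    have : ¬ 3 ∣ orderOf g := fun h => by
      have := Nat.dvd_gcd h (dvd_refl 3)
      rw [hg.gcd_eq_one] at this
      norm_num at this
    omega
  rcases h3 with h3 | h3
  · rwa [nat_smul_eq_self h3] at h2
  · rw [← nat_smul_eq_self (show (2 * orderOf g) % 3 = 1 by omega) u, mul_nsmul', h2, smul_zero]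

omit [Finite W] in
/-- A 3'-group moving everything into an invariant subspace acts faithfully on it. -/
theorem card_dvd_of_comSpace {H : Subgroup G} (hfaith : ∀ h ∈ H, ρ h = 1 → h = 1)
    (hcop : (Nat.card H).Coprime 3) (Y : Submodule (ZMod 3) W) [Finite Y] (hY : ∀ h ∈ H, comSpace ρ h ≤ Y) :
    Nat.card H ∣ Nat.card (Module.End (ZMod 3) Y)ˣ := by
  have hinv : ∀ h ∈ H, ∀ v ∈ Y, ρ h v ∈ Y := fun h hh v hv => by
    have := Y.add_mem (hY h hh (mem_comSpace ρ h v)) hv
    rwa [sub_add_cancel] at this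
  let f : H →* Module.End (ZMod 3) Y :=
    { toFun := fun h => (ρ h).restrict (hinv h h.2)
      map_one' := LinearMap.ext fun v => Subtype.ext (show ρ ((1 : H) : G) (v : W) = v by rw [OneMemClass.coe_one, map_one]; rfl)
      map_mul' := fun h k => LinearMap.ext fun v => Subtype.ext (rho_mul ρ (h : G) k v) }
  refine Subgroup.card_dvd_of_injective f.toHomUnits ((injective_iff_map_eq_one _).2 fun h hh => ?_)
  have h1 : ∀ v ∈ Y, ρ (h : G) v = v := fun v hv => by
    have := congrArg (fun u : (Module.End (ZMod 3) Y)ˣ => ((u : Module.End (ZMod 3) Y) ⟨v, hv⟩ : W)) hh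
    exact this
  refine Subtype.ext (hfaith _ h.2 (LinearMap.ext fun w => ?_))
  have hord : (orderOf (h : G)).Coprime 3 := hcop.coprime_dvd_left (Subgroup.orderOf_dvd_natCard H h.2)
  have := fpf_comSpace ρ hord (mem_comSpace ρ (h : G) w) (h1 _ (hY _ h.2 (mem_comSpace ρ _ w)))
  exact sub_eq_zero.1 this

omit [Finite W] in
theorem comSpace_zpowers {g x : G} (hx : x ∈ Subgroup.zpowers g) : comSpace ρ x ≤ comSpace ρ g := by
  obtain ⟨n, rfl⟩ := mem_powers_iff_mem_zpowers.2 hx
  show LinearMap.range (ρ (g ^ n) - 1) ≤ _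
  rintro _ ⟨w, rfl⟩
  show ρ (g ^ n) w - w ∈ _
  induction n with
  | zero => simp
  | succ n ih =>
    have h : ρ (g ^ (n + 1)) w - w = (ρ g (ρ (g ^ n) w) - ρ (g ^ n) w) + (ρ (g ^ n) w - w) := by
      rw [pow_succ', rho_mul]; abel
    rw [h]
    exact add_mem (mem_comSpace ρ g _) (ih (Subgroup.npow_mem_zpowers g n))

omit [Finite G] [Finite W] in
theorem comSpace_mul_le (g h : G) : comSpace ρ (g * h) ≤ comSpace ρ g ⊔ comSpace ρ h := by
  rintro _ ⟨w, rfl⟩
  show ρ (g * h) w - w ∈ _
  have e : ρ (g * h) w - w = (ρ g (ρ h w) - ρ h w) + (ρ h w - w) := by rw [rho_mul]; abel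
  rw [e]
  exact add_mem (Submodule.mem_sup_left (mem_comSpace ρ g _)) (Submodule.mem_sup_right (mem_comSpace ρ h w))

omit [Finite G] [Finite W] in
theorem comSpace_inv (g : G) : comSpace ρ g⁻¹ = comSpace ρ g := by
  have key : ∀ x : G, comSpace ρ x⁻¹ ≤ comSpace ρ x := by
    intro x
    rintro _ ⟨w, rfl⟩
    show ρ x⁻¹ w - w ∈ _
    have h2 : ρ x (ρ x⁻¹ w) = w := by rw [← rho_mul, mul_inv_cancel, map_one]; rfl
    have := (comSpace ρ x).neg_mem (mem_comSpace ρ x (ρ x⁻¹ w))
    rwa [h2, neg_sub] at this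
  exact le_antisymm (key g) (by simpa using key g⁻¹)

omit [Finite G] [Finite W] in
theorem comSpace_conj (g h : G) : comSpace ρ (h * g * h⁻¹) = (comSpace ρ g).map (ρ h) := by
  apply le_antisymm
  · rintro _ ⟨w, rfl⟩
    refine ⟨ρ g (ρ h⁻¹ w) - ρ h⁻¹ w, mem_comSpace ρ g _, ?_⟩
    show ρ h _ = ρ (h * g * h⁻¹) w - w
    rw [map_sub, rho_mul, rho_mul, ← rho_mul ρ h h⁻¹, mul_inv_cancel, map_one]
    rfl
  · rintro _ ⟨_, ⟨v, rfl⟩, rfl⟩
    refine ⟨ρ h v, ?_⟩
    show ρ (h * g * h⁻¹) (ρ h v) - ρ h v = ρ h (ρ g v - v)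
    rw [map_sub, rho_mul, rho_mul, rho_inv]

theorem finrank_conj_le (g h : G) :
    finrank (ZMod 3) (comSpace ρ (h * g * h⁻¹)) ≤ finrank (ZMod 3) (comSpace ρ g) := by
  haveI := fact_three
  haveI : FiniteDimensional (ZMod 3) W := Module.Finite.of_finite
  rw [comSpace_conj]
  exact Submodule.finrank_map_le _ _

/-- An element of odd order inverted by some element and with small commutator space has order dividing five. -/
theorem pow_five_eq_one (u s : G) (hfaith : ∀ x ∈ Subgroup.zpowers u, ρ x = 1 → x = 1) (hodd : Odd (orderOf u))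
    (hcop : (orderOf u).Coprime 3) (hinv : s * u * s⁻¹ = u⁻¹) (hrank : finrank (ZMod 3) (comSpace ρ u) ≤ 4) :
    u ^ 5 = 1 := by
  haveI := fact_three
  haveI : FiniteDimensional (ZMod 3) W := Module.Finite.of_finite
  have h65 : orderOf u ∣ 65 := by
    have h := card_dvd_of_comSpace ρ (H := Subgroup.zpowers u) hfaith (by rwa [Nat.card_zpowers]) (comSpace ρ u)
      (fun h hh => comSpace_zpowers ρ hh)
    rw [Nat.card_zpowers, card_units_end] at h
    generalize finrank (ZMod 3) (comSpace ρ u) = d at h hrank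
    have h2 : Nat.Coprime (orderOf u) 2 := Nat.coprime_two_right.2 hodd
    have hd : orderOf u ∣ 65 * (2 ^ 9 * 3 ^ 6) := by
      refine h.trans ?_
      interval_cases d <;> norm_num [Fin.prod_univ_succ]
    exact (Nat.Coprime.mul_right (h2.pow_right 9) (hcop.pow_right 6)).dvd_of_dvd_mul_right hd
  set v := u ^ 5 with hv
  by_contra hv1
  have hv13 : v ^ 13 = 1 := by rw [hv, ← pow_mul]; exact orderOf_dvd_iff_pow_eq_one.1 h65
  haveI : Fact (Nat.Prime 13) := ⟨by norm_num⟩
  have hov : orderOf v = 13 := orderOf_eq_prime hv13 hv1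
  have hvu : v ∈ Subgroup.zpowers u := Subgroup.npow_mem_zpowers u 5
  set Y := comSpace ρ v with hYdef
  have hY4 : finrank (ZMod 3) Y ≤ 4 := (Submodule.finrank_mono (comSpace_zpowers ρ hvu)).trans hrank
  have hvY : ∀ y ∈ Y, ρ v y ∈ Y := fun y hy => by
    have := Y.add_mem (mem_comSpace ρ v y) hy
    rwa [sub_add_cancel] at this
  have hfp : ∀ y ∈ Y, ρ v y = y → y = 0 := fun y hy => fpf_comSpace ρ (by rw [hov]; norm_num) hy
  have hsv : s * v * s⁻¹ = v⁻¹ := by rw [hv, ← conj_pow, hinv, inv_pow]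
  have hsY : ∀ y ∈ Y, ρ s y ∈ Y := fun y hy => by
    rw [hYdef, ← comSpace_inv, ← hsv, comSpace_conj]
    exact ⟨y, hy, rfl⟩
  -- fixed point count
  letI : MulAction (Subgroup.zpowers v) Y :=
    { smul := fun g y => ⟨ρ (g : G) y, by
        have := Y.add_mem (comSpace_zpowers ρ g.2 (mem_comSpace ρ (g : G) y)) y.2
        rwa [sub_add_cancel] at this⟩
      one_smul := fun y => Subtype.ext (show ρ ((1 : Subgroup.zpowers v) : G) (y : W) = y by rw [OneMemClass.coe_one, map_one]; rfl)
      mul_smul := fun g h y => Subtype.ext (rho_mul ρ (g : G) h y) }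
  have hmod := (IsPGroup.of_card (p := 13) (n := 1) (by rw [Nat.card_zpowers, hov, pow_one]) :
    IsPGroup 13 (Subgroup.zpowers v)).card_modEq_card_fixedPoints Y
  have hfix1 : Nat.card (MulAction.fixedPoints (Subgroup.zpowers v) Y) = 1 := by
    rw [Nat.card_eq_one_iff_unique]
    refine ⟨⟨fun a b => Subtype.ext (Subtype.ext ?_)⟩, ⟨⟨0, fun g => Subtype.ext (map_zero (ρ (g : G)))⟩⟩⟩
    rw [hfp _ a.1.2 (congrArg Subtype.val (a.2 ⟨v, Subgroup.mem_zpowers v⟩)),
      hfp _ b.1.2 (congrArg Subtype.val (b.2 ⟨v, Subgroup.mem_zpowers v⟩))]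
  rw [hfix1, Module.natCard_eq_pow_finrank (K := ZMod 3), Nat.card_zmod] at hmod
  have hvne : finrank (ZMod 3) Y ≠ 0 := fun h => hv1 (hfaith v hvu (LinearMap.ext fun w => sub_eq_zero.1 (by
    have := mem_comSpace ρ v w
    rw [← hYdef, Submodule.finrank_eq_zero.1 h, Submodule.mem_bot] at this
    exact this)))
  have hd3 : finrank (ZMod 3) Y = 3 := by
    revert hmod hY4 hvne
    generalize finrank (ZMod 3) Y = d
    intro h4 hne hmod
    interval_cases d <;> simp_all [Nat.ModEq]
  let V : Module.End (ZMod 3) Y := (ρ v).restrict hvY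
  let S : Module.End (ZMod 3) Y := (ρ s).restrict hsY
  have hV13 : V ^ 13 = 1 := by
    refine LinearMap.ext fun y => Subtype.ext ?_
    have hpow : ∀ n : ℕ, ((V ^ n) y : W) = ρ (v ^ n) y := fun n => by
      induction n with
      | zero => simp [pow_zero, map_one]
      | succ n ih => rw [pow_succ', pow_succ', rho_mul, ← ih]; rfl
    rw [hpow, hv13, map_one]; rfl
  have hVdet : LinearMap.det V = 1 := by
    have := congrArg LinearMap.det hV13
    rw [map_pow, map_one] at this
    exact zmod3_pow13 _ this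
  have hSV : S * V = V ^ 12 * S := by
    refine LinearMap.ext fun y => Subtype.ext ?_
    have hpow : ∀ (n : ℕ) (x : Y), ((V ^ n) x : W) = ρ (v ^ n) x := fun n x => by
      induction n with
      | zero => simp [pow_zero, map_one]
      | succ n ih => rw [pow_succ', pow_succ', rho_mul, ← ih]; rfl
    show ρ s (ρ v y) = ((V ^ 12) (S y) : W)
    rw [hpow]
    show ρ s (ρ v y) = ρ (v ^ 12) (ρ s y)
    rw [← rho_mul, ← rho_mul]
    congr 2
    have : v⁻¹ = v ^ 12 := inv_eq_of_mul_eq_one_right (by rw [← pow_succ']; exact hv13)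
    rw [← this, ← hsv]; simp
  have hSdet : LinearMap.det S ≠ 0 := by
    intro h
    obtain ⟨y, hy, hy0⟩ := (Submodule.ne_bot_iff _).1 (LinearMap.bot_lt_ker_of_det_eq_zero h).ne'
    apply hy0
    refine Subtype.ext ?_
    have : ρ s (y : W) = 0 := congrArg Subtype.val (LinearMap.mem_ker.1 hy)
    rw [← rho_inv ρ s (y : W), this, map_zero]; rfl
  have e1 : LinearMap.det (V ^ 12 - 1) = LinearMap.det (V - 1) := by
    have h : S * (V - 1) = (V ^ 12 - 1) * S := by rw [mul_sub, sub_mul, hSV, mul_one, one_mul]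
    have := congrArg LinearMap.det h
    rw [map_mul, map_mul, mul_comm] at this
    exact (mul_right_cancel₀ hSdet this).symm
  have e2 : LinearMap.det (V ^ 12 - 1) = - LinearMap.det (V - 1) := by
    have h : V * (V ^ 12 - 1) = (-1 : ZMod 3) • (V - 1) := by
      rw [mul_sub, ← pow_succ', hV13, mul_one, neg_one_smul, neg_sub]
    have := congrArg LinearMap.det h
    rw [map_mul, hVdet, one_mul, LinearMap.det_smul, hd3] at this
    rw [this]; ring
  have hz : LinearMap.det (V - 1) = 0 := by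
    exact zmod3_neg _ (e1.symm.trans e2)
  obtain ⟨y, hy, hy0⟩ := (Submodule.ne_bot_iff _).1 (LinearMap.bot_lt_ker_of_det_eq_zero hz).ne'
  apply hy0
  refine Subtype.ext (hfp _ y.2 ?_)
  exact sub_eq_zero.1 (congrArg Subtype.val (LinearMap.mem_ker.1 hy))

/-- An odd 5-group with commutator spaces in a six-dimensional space has order at most five. -/
theorem card_le_five {H : Subgroup G} (hfaith : ∀ h ∈ H, ρ h = 1 → h = 1) (hH : IsPGroup 5 H)
    (Y : Submodule (ZMod 3) W) (hY6 : finrank (ZMod 3) Y ≤ 6) (hY : ∀ h ∈ H, comSpace ρ h ≤ Y) :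
    Nat.card H ≤ 5 := by
  haveI := fact_three
  haveI : Fact (Nat.Prime 5) := ⟨by norm_num⟩
  obtain ⟨k, hk⟩ := IsPGroup.iff_card.1 hH
  have h := card_dvd_of_comSpace ρ hfaith (by rw [hk]; exact Nat.Coprime.pow_left k (by norm_num)) Y hY
  rw [hk, card_units_end] at h
  rw [hk]
  by_contra hlt
  push Not at hlt
  have : 2 ≤ k := by
    by_contra h'
    have := Nat.pow_le_pow_right (show 5 > 0 by norm_num) (show k ≤ 1 by omega)
    omega
  have h25 : 5 ^ 2 ∣ ∏ i : Fin (finrank (ZMod 3) Y), (3 ^ finrank (ZMod 3) Y - 3 ^ (i : ℕ)) :=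
    (pow_dvd_pow 5 this).trans h
  revert h25
  generalize finrank (ZMod 3) Y = d at hY6
  interval_cases d <;> norm_num [Fin.prod_univ_succ]

end Cfsg.Agent.CubicThree
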