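/-
A four-group and an element of order three permuting its involutions, acting with a commutator space of dimension two.
-/
import Mathlib
import Cfsg.Agent.Lib.CubicThree.Inverted

set_option autoImplicit false
set_option linter.style.haveILetI false

namespace Cfsg.Agent.CubicThree

open Module

variable (G : Type*) [Group G] (W : Type*) [AddCommGroup W] [Module (ZMod 3) W]

/-- The configuration. -/
structure Cfg where
  ρ : Representation (ZMod 3) G W
  R : Subgroup G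
  b : G
  z : G
  faith : ∀ r ∈ R, ρ r = 1 → r = 1
  hRb : ∀ r ∈ R, b * r * b⁻¹ ∈ R
  hRcop : (Nat.card R).Coprime 3
  hb3 : b ^ 3 = 1
  hzR : z ∈ R
  hz2 : z * z = 1
  hbz : b * z * b⁻¹ ≠ z
  hcomm : z * (b * z * b⁻¹) = b * z * b⁻¹ * z
  hbz2 : b * (b * z * b⁻¹) * b⁻¹ = z * (b * z * b⁻¹)
  rank : finrank (ZMod 3) (comSpace ρ b) ≤ 2

variable {G W}
variable (C : Cfg G W)

/-- The second involution. -/
def Cfg.y : G := C.b * C.z * C.b⁻¹

theorem Cfg.y_mem : C.y ∈ C.R := C.hRb _ C.hzR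

theorem Cfg.y2 : C.y * C.y = 1 := by
  simp [Cfg.y, mul_assoc, ← mul_assoc C.z C.z, C.hz2]

theorem Cfg.zy : C.z * C.y = C.y * C.z := C.hcomm

theorem Cfg.by' : C.b * C.y * C.b⁻¹ = C.z * C.y := C.hbz2

theorem Cfg.bzy : C.b * (C.z * C.y) * C.b⁻¹ = C.z := by
  rw [show C.b * (C.z * C.y) * C.b⁻¹ = (C.b * C.z * C.b⁻¹) * (C.b * C.y * C.b⁻¹) by simp [mul_assoc], C.by']
  show C.y * (C.z * C.y) = C.z
  rw [← mul_assoc, ← C.zy, mul_assoc, C.y2, mul_one]

/-- The four eigenspaces. -/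
def Cfg.L (s t : ZMod 3) : Submodule (ZMod 3) W :=
  LinearMap.ker (C.ρ C.z - s • 1) ⊓ LinearMap.ker (C.ρ C.y - t • 1)

theorem Cfg.mem_L {s t : ZMod 3} {v : W} : v ∈ C.L s t ↔ C.ρ C.z v = s • v ∧ C.ρ C.y v = t • v := by
  simp [Cfg.L, LinearMap.mem_ker, sub_eq_zero]

theorem Cfg.rho_sq {g : G} (hg : g * g = 1) (v : W) : C.ρ g (C.ρ g v) = v := by
  rw [← rho_mul, hg, map_one]; rfl

/-- The projections. -/
def Cfg.P (s t : ZMod 3) : W →ₗ[ZMod 3] W := (1 + s • C.ρ C.z) * (1 + t • C.ρ C.y)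

theorem Cfg.P_apply (s t : ZMod 3) (v : W) :
    C.P s t v = v + t • C.ρ C.y v + s • C.ρ C.z v + (s * t) • C.ρ (C.z * C.y) v := by
  simp only [Cfg.P, Module.End.mul_apply, LinearMap.add_apply, Module.End.one_apply, LinearMap.smul_apply,
    map_add, map_smul, smul_add, smul_smul, rho_mul, mul_comm s t]
  abel

theorem Cfg.P_mem {s t : ZMod 3} (hs : s * s = 1) (ht : t * t = 1) (v : W) : C.P s t v ∈ C.L s t := by
  have e1 : ∀ w, C.ρ C.z (C.ρ (C.z * C.y) w) = C.ρ C.y w := fun w => by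
    rw [← rho_mul, ← mul_assoc, C.hz2, one_mul]
  have e2 : ∀ w, C.ρ C.y (C.ρ (C.z * C.y) w) = C.ρ C.z w := fun w => by
    rw [← rho_mul, ← mul_assoc, ← C.zy, mul_assoc, C.y2, mul_one]
  have e3 : ∀ w, C.ρ C.z (C.ρ C.y w) = C.ρ (C.z * C.y) w := fun w => (rho_mul _ _ _ _).symm
  have e4 : ∀ w, C.ρ C.y (C.ρ C.z w) = C.ρ (C.z * C.y) w := fun w => by rw [← rho_mul, ← C.zy]
  rw [C.mem_L, C.P_apply]
  simp only [map_add, map_smul, e1, e2, e3, e4, C.rho_sq C.hz2, C.rho_sq C.y2, smul_add, smul_smul,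
    ← mul_assoc, hs, ht, one_smul, one_mul]
  constructor
  · abel
  · rw [show t * s * t = s by rw [mul_right_comm, ht, one_mul], mul_comm t s]; abel

theorem Cfg.P_sum (v : W) : C.P 1 1 v + C.P 1 (-1) v + C.P (-1) 1 v + C.P (-1) (-1) v = v := by
  simp only [C.P_apply, mul_neg, neg_mul, one_mul, mul_one, neg_neg, one_smul, neg_smul]
  rw [show ∀ a b c d : W, a + b + c + d + (a + -b + c + -d) + (a + b + -c + -d) + (a + -b + -c + d) =
    (a + a + a) + a from fun a b c d => by abel, three_smul_zero, zero_add]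

theorem Cfg.P_of_mem {s t s' t' : ZMod 3} {v : W} (hv : v ∈ C.L s' t') :
    C.P s t v = ((1 + s * s') * (1 + t * t')) • v := by
  obtain ⟨h1, h2⟩ := C.mem_L.1 hv
  rw [C.P_apply, rho_mul, h2, map_smul, h1]
  simp only [smul_smul]
  simp only [add_mul, mul_add, one_mul, mul_one, add_smul, one_smul]
  rw [show s * t * (t' * s') = s * s' * (t * t') by ring]
  abel

theorem zmod3_eig : ∀ s t s' t' : ZMod 3, s * s = 1 → t * t = 1 → s' * s' = 1 → t' * t' = 1 →
    (1 + s * s') * (1 + t * t') = if s = s' ∧ t = t' then 1 else 0 := by decide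

theorem Cfg.P_self {s t : ZMod 3} (hs : s * s = 1) (ht : t * t = 1) {v : W} (hv : v ∈ C.L s t) : C.P s t v = v := by
  rw [C.P_of_mem hv, zmod3_eig s t s t hs ht hs ht, if_pos ⟨rfl, rfl⟩, one_smul]

theorem Cfg.P_other {s t s' t' : ZMod 3} (hs : s * s = 1) (ht : t * t = 1) (hs' : s' * s' = 1) (ht' : t' * t' = 1)
    (hne : ¬(s = s' ∧ t = t')) {v : W} (hv : v ∈ C.L s' t') : C.P s t v = 0 := by
  rw [C.P_of_mem hv, zmod3_eig s t s' t' hs ht hs' ht', if_neg hne, zero_smul]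

theorem Cfg.inv_z_b (v : W) : C.ρ C.z (C.ρ C.b v) = C.ρ C.b (C.ρ (C.z * C.y) v) := by
  rw [← rho_mul, ← rho_mul]
  have h : C.z * C.b = C.b * (C.z * C.y) := by
    conv_lhs => rw [← C.bzy]
    simp [mul_assoc]
  rw [h]

theorem Cfg.inv_y_b (v : W) : C.ρ C.y (C.ρ C.b v) = C.ρ C.b (C.ρ C.z v) := by
  rw [← rho_mul, ← rho_mul]
  congr 2
  simp [Cfg.y, mul_assoc]

theorem Cfg.b_L {s t : ZMod 3} {v : W} (hv : v ∈ C.L s t) : C.ρ C.b v ∈ C.L (s * t) s := by
  obtain ⟨h1, h2⟩ := C.mem_L.1 hv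
  rw [C.mem_L, C.inv_z_b, C.inv_y_b, rho_mul, h2, map_smul (C.ρ C.z), h1, smul_smul, map_smul, map_smul, mul_comm t s]
  exact ⟨rfl, rfl⟩

/-- The sum of the moved lines. -/
def Cfg.U : Submodule (ZMod 3) W := C.L 1 (-1) ⊔ C.L (-1) 1 ⊔ C.L (-1) (-1)

variable [Finite W]

theorem zmod3_sign : (1 : ZMod 3) * 1 = 1 ∧ (-1 : ZMod 3) * -1 = 1 := by decide

theorem Cfg.L_ne_bot : C.L 1 (-1) ≠ ⊥ := by
  intro h
  obtain ⟨h11, hnn⟩ := zmod3_sign
  have h2 : C.L (-1) 1 = ⊥ := by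
    rw [Submodule.eq_bot_iff]
    intro v hv
    have := C.b_L hv
    rw [neg_one_mul] at this
    -- the element maps into the third line, then into the first
    have h3 := C.b_L this
    rw [hnn] at h3
    rw [h, Submodule.mem_bot] at h3
    rw [← rho_inv C.ρ C.b v, ← rho_inv C.ρ C.b (C.ρ C.b v), h3, map_zero, map_zero]
  have h3 : C.L (-1) (-1) = ⊥ := by
    rw [Submodule.eq_bot_iff]
    intro v hv
    have := C.b_L hv
    rw [hnn, h, Submodule.mem_bot] at this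
    rw [← rho_inv C.ρ C.b v, this, map_zero]
  apply C.hbz
  have hz : C.ρ C.z = 1 := by
    refine LinearMap.ext fun v => ?_
    have e := C.P_sum v
    have a1 : C.P 1 (-1) v = 0 := by rw [← Submodule.mem_bot (ZMod 3), ← h]; exact C.P_mem h11 hnn v
    have a2 : C.P (-1) 1 v = 0 := by rw [← Submodule.mem_bot (ZMod 3), ← h2]; exact C.P_mem hnn h11 v
    have a3 : C.P (-1) (-1) v = 0 := by rw [← Submodule.mem_bot (ZMod 3), ← h3]; exact C.P_mem hnn hnn v
    rw [a1, a2, a3, add_zero, add_zero, add_zero] at e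
    have := (C.mem_L.1 (C.P_mem h11 h11 v)).1
    rw [e, one_smul] at this
    exact this
  rw [C.faith C.z C.hzR hz]; simp

theorem Cfg.finrank_facts :
    finrank (ZMod 3) (C.L 1 (-1)) = 1 ∧ finrank (ZMod 3) (C.L (-1) 1) = 1 ∧ finrank (ZMod 3) (C.L (-1) (-1)) = 1 ∧
      comSpace C.ρ C.b ≤ C.U := by
  haveI := fact_three
  haveI : Module.Finite (ZMod 3) W := Module.Finite.of_finite
  obtain ⟨h11, hnn⟩ := zmod3_sign
  have f12 : ∀ v ∈ C.L 1 (-1), C.ρ C.b v ∈ C.L (-1) 1 := fun v hv => by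
    have := C.b_L hv; rwa [one_mul] at this
  have f23 : ∀ v ∈ C.L (-1) 1, C.ρ C.b v ∈ C.L (-1) (-1) := fun v hv => by
    have := C.b_L hv; rwa [mul_one] at this
  have f31 : ∀ v ∈ C.L (-1) (-1), C.ρ C.b v ∈ C.L 1 (-1) := fun v hv => by
    have := C.b_L hv; rwa [hnn] at this
  let f : C.L 1 (-1) × C.L 1 (-1) →ₗ[ZMod 3] W :=
    (C.ρ C.b - 1).comp (LinearMap.coprod (C.L 1 (-1)).subtype ((C.ρ C.b).comp (C.L 1 (-1)).subtype))
  have hf : ∀ p : C.L 1 (-1) × C.L 1 (-1), f p = C.ρ C.b p.1 + C.ρ C.b (C.ρ C.b p.2) - (p.1 + C.ρ C.b p.2) := fun p => by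
    show C.ρ C.b ((p.1 : W) + C.ρ C.b p.2) - ((p.1 : W) + C.ρ C.b p.2) = _
    rw [map_add]
  have hinj : Function.Injective f := by
    rw [← LinearMap.ker_eq_bot, Submodule.eq_bot_iff]
    rintro ⟨v, w⟩ hp
    rw [LinearMap.mem_ker, hf] at hp
    have hbw := f12 _ w.2
    have e1 := congrArg (C.P (-1) (-1)) hp
    simp only [map_add, map_sub, map_zero] at e1
    rw [C.P_other hnn hnn hnn h11 (by decide) (f12 _ v.2), C.P_self hnn hnn (f23 _ hbw),
      C.P_other hnn hnn h11 hnn (by decide) v.2, C.P_other hnn hnn hnn h11 (by decide) hbw] at e1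
    simp only [zero_add, sub_zero] at e1
    have hw : (w : W) = 0 := by rw [← rho_inv C.ρ C.b (w : W), ← rho_inv C.ρ C.b (C.ρ C.b w), e1, map_zero, map_zero]
    rw [hw, map_zero, map_zero, add_zero, add_zero] at hp
    have e2 := congrArg (C.P 1 (-1)) hp
    rw [map_sub, map_zero, C.P_other h11 hnn hnn h11 (by decide) (f12 _ v.2), C.P_self h11 hnn v.2, zero_sub,
      neg_eq_zero] at e2
    exact Prod.ext (Subtype.ext e2) (Subtype.ext hw)
  have hle : LinearMap.range f ≤ comSpace C.ρ C.b := LinearMap.range_comp_le_range _ _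
  have hr := LinearMap.finrank_range_of_inj hinj
  rw [Module.finrank_prod] at hr
  have h1 : finrank (ZMod 3) (C.L 1 (-1)) ≠ 0 := fun h => C.L_ne_bot (Submodule.finrank_eq_zero.1 h)
  have h2 := Submodule.finrank_mono hle
  have hrk := C.rank
  have hd1 : finrank (ZMod 3) (C.L 1 (-1)) = 1 := by omega
  have heq : LinearMap.range f = comSpace C.ρ C.b := Submodule.eq_of_le_of_finrank_le hle (by omega)
  have le12 : finrank (ZMod 3) (C.L (-1) 1) ≤ finrank (ZMod 3) (C.L (-1) (-1)) :=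
    LinearMap.finrank_le_finrank_of_injective (f := (C.ρ C.b).restrict f23) fun a c h => Subtype.ext (by
      have := congrArg (fun u : C.L (-1) (-1) => C.ρ C.b⁻¹ (u : W)) h
      simpa [rho_inv] using this)
  have le23 : finrank (ZMod 3) (C.L (-1) (-1)) ≤ finrank (ZMod 3) (C.L 1 (-1)) :=
    LinearMap.finrank_le_finrank_of_injective (f := (C.ρ C.b).restrict f31) fun a c h => Subtype.ext (by
      have := congrArg (fun u : C.L 1 (-1) => C.ρ C.b⁻¹ (u : W)) h
      simpa [rho_inv] using this)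
  have le31 : finrank (ZMod 3) (C.L 1 (-1)) ≤ finrank (ZMod 3) (C.L (-1) 1) :=
    LinearMap.finrank_le_finrank_of_injective (f := (C.ρ C.b).restrict f12) fun a c h => Subtype.ext (by
      have := congrArg (fun u : C.L (-1) 1 => C.ρ C.b⁻¹ (u : W)) h
      simpa [rho_inv] using this)
  refine ⟨hd1, by omega, by omega, ?_⟩
  rw [← heq]
  rintro _ ⟨p, rfl⟩
  rw [hf]
  refine sub_mem (add_mem ?_ ?_) (add_mem ?_ ?_)
  · exact Submodule.mem_sup_left (Submodule.mem_sup_right (f12 _ p.1.2))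
  · exact Submodule.mem_sup_right (f23 _ (f12 _ p.2.2))
  · exact Submodule.mem_sup_left (Submodule.mem_sup_left p.1.2)
  · exact Submodule.mem_sup_left (Submodule.mem_sup_right (f12 _ p.2.2))

theorem Cfg.b_fix {v : W} (hv : v ∈ C.L 1 1) : C.ρ C.b v = v := by
  obtain ⟨h11, hnn⟩ := zmod3_sign
  have h1 : C.ρ C.b v - v ∈ C.L 1 1 := by
    refine sub_mem ?_ hv
    have := C.b_L hv; rwa [one_mul] at this
  have h2 : C.P 1 1 (C.ρ C.b v - v) = 0 := by
    have hU := C.finrank_facts.2.2.2 (mem_comSpace C.ρ C.b v)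
    have key : C.U ≤ LinearMap.ker (C.P 1 1) := by
      refine sup_le (sup_le ?_ ?_) ?_ <;> intro u hu <;> rw [LinearMap.mem_ker]
      · exact C.P_other h11 h11 h11 hnn (by decide) hu
      · exact C.P_other h11 h11 hnn h11 (by decide) hu
      · exact C.P_other h11 h11 hnn hnn (by decide) hu
    exact key hU
  rw [C.P_self h11 h11 h1] at h2
  exact sub_eq_zero.1 h2

theorem Cfg.comSpace_z_le : comSpace C.ρ C.z ≤ C.L (-1) 1 ⊔ C.L (-1) (-1) := by
  obtain ⟨h11, hnn⟩ := zmod3_sign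
  rintro _ ⟨v, rfl⟩
  show C.ρ C.z v - v ∈ _
  have e := C.P_sum v
  have a := fun s t (hs : s * s = 1) (ht : t * t = 1) => C.mem_L.1 (C.P_mem (s := s) (t := t) hs ht v)
  have key : C.ρ C.z v - v = C.P (-1) 1 v + C.P (-1) (-1) v := by
    conv_lhs => rw [← e]
    rw [map_add, map_add, map_add, (a 1 1 h11 h11).1, (a 1 (-1) h11 hnn).1, (a (-1) 1 hnn h11).1,
      (a (-1) (-1) hnn hnn).1, one_smul, one_smul, neg_one_smul, neg_one_smul]
    rw [← sub_eq_zero]
    calc _ = -(C.P (-1) 1 v + C.P (-1) 1 v + C.P (-1) 1 v) -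
          (C.P (-1) (-1) v + C.P (-1) (-1) v + C.P (-1) (-1) v) := by abel
      _ = 0 := by rw [three_smul_zero, three_smul_zero, neg_zero, sub_zero]
  rw [key]
  exact add_mem (Submodule.mem_sup_left (C.P_mem hnn h11 v)) (Submodule.mem_sup_right (C.P_mem hnn hnn v))

theorem Cfg.rank_z : finrank (ZMod 3) (comSpace C.ρ C.z) ≤ 2 := by
  haveI := fact_three
  haveI : Module.Finite (ZMod 3) W := Module.Finite.of_finite
  obtain ⟨-, h2, h3, -⟩ := C.finrank_facts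
  refine (Submodule.finrank_mono C.comSpace_z_le).trans ?_
  have := Submodule.finrank_add_le_finrank_add_finrank (C.L (-1) 1) (C.L (-1) (-1))
  omega

theorem zmod3_unit_sq : ∀ s : ZMod 3, s ≠ 0 → s * s = 1 := by decide

/-- Elements centralising the four-group are moved by `b` only by involutions. -/
theorem Cfg.comm_sq {x : G} (hx : x ∈ C.R) (hxz : x * C.z = C.z * x) (hxy : x * C.y = C.y * x) :
    (C.b * x * C.b⁻¹ * x⁻¹) * (C.b * x * C.b⁻¹ * x⁻¹) = 1 := by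
  haveI := fact_three
  haveI : Module.Finite (ZMod 3) W := Module.Finite.of_finite
  obtain ⟨h11, hnn⟩ := zmod3_sign
  set c := C.b * x * C.b⁻¹ * x⁻¹ with hc
  have hcR : c ∈ C.R := mul_mem (C.hRb x hx) (inv_mem hx)
  have pres : ∀ g : G, g * C.z = C.z * g → g * C.y = C.y * g → ∀ s t, ∀ v ∈ C.L s t, C.ρ g v ∈ C.L s t := by
    intro g gz gy s t v hv
    obtain ⟨a1, a2⟩ := C.mem_L.1 hv
    rw [C.mem_L, ← rho_mul, ← gz, rho_mul, a1, ← rho_mul, ← gy, rho_mul, a2, map_smul, map_smul]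
    exact ⟨rfl, rfl⟩
  have hxzy : x * (C.z * C.y) = C.z * C.y * x := by rw [← mul_assoc, hxz, mul_assoc, hxy, mul_assoc]
  have cb : ∀ q : G, x * q = q * x → C.b * x * C.b⁻¹ * (C.b * q * C.b⁻¹) = C.b * q * C.b⁻¹ * (C.b * x * C.b⁻¹) := by
    intro q hq
    rw [show C.b * x * C.b⁻¹ * (C.b * q * C.b⁻¹) = C.b * (x * q) * C.b⁻¹ by simp [mul_assoc], hq]
    simp [mul_assoc]
  have hbz : C.b * x * C.b⁻¹ * C.z = C.z * (C.b * x * C.b⁻¹) := by
    have := cb _ hxzy; rwa [C.bzy] at this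
  have hby : C.b * x * C.b⁻¹ * C.y = C.y * (C.b * x * C.b⁻¹) := cb _ hxz
  have hcz : c * C.z = C.z * c := (show Commute (C.b * x * C.b⁻¹) C.z from hbz).mul_left (Commute.inv_left hxz)
  have hcy : c * C.y = C.y * c := (show Commute (C.b * x * C.b⁻¹) C.y from hby).mul_left (Commute.inv_left hxy)
  have hline : ∀ s t, finrank (ZMod 3) (C.L s t) = 1 → ∀ v ∈ C.L s t, C.ρ (c * c) v = v := by
    intro s t h1 v hv
    obtain ⟨⟨e, he⟩, he0, hspan⟩ := finrank_eq_one_iff'.1 h1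
    obtain ⟨k, hk⟩ := hspan ⟨_, pres c hcz hcy s t e he⟩
    obtain ⟨m, hm⟩ := hspan ⟨v, hv⟩
    have hk' : C.ρ c e = k • e := (congrArg Subtype.val hk).symm
    have hm' : v = m • e := (congrArg Subtype.val hm).symm
    have hk0 : k ≠ 0 := fun h => he0 (Subtype.ext (by
      rw [h, zero_smul] at hk'
      show e = 0
      rw [← rho_inv C.ρ c e, hk', map_zero]))
    rw [hm', map_smul, rho_mul, hk', map_smul, hk', smul_smul k k, zmod3_unit_sq k hk0, one_smul]
  obtain ⟨l1, l2, l3, -⟩ := C.finrank_facts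
  refine C.faith _ (mul_mem hcR hcR) (LinearMap.ext fun v => ?_)
  show C.ρ (c * c) v = v
  conv_rhs => rw [← C.P_sum v]
  conv_lhs => rw [← C.P_sum v]
  rw [map_add, map_add, map_add, hline 1 (-1) l1 _ (C.P_mem h11 hnn v), hline (-1) 1 l2 _ (C.P_mem hnn h11 v),
    hline (-1) (-1) l3 _ (C.P_mem hnn hnn v)]
  congr 3
  have hF := C.P_mem h11 h11 v
  have hfixc : ∀ u ∈ C.L 1 1, C.ρ c u = u := by
    intro u hu
    have hx1 : C.ρ x⁻¹ u ∈ C.L 1 1 := pres x⁻¹ (Commute.inv_left hxz) (Commute.inv_left hxy) 1 1 u hu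
    rw [hc, rho_mul, rho_mul, rho_mul]
    have hbi : C.ρ C.b⁻¹ (C.ρ x⁻¹ u) = C.ρ x⁻¹ u := by
      conv_lhs => rw [← C.b_fix hx1]
      rw [rho_inv]
    rw [hbi, ← rho_mul C.ρ x x⁻¹, mul_inv_cancel, map_one]
    exact C.b_fix hu
  rw [rho_mul, hfixc _ hF, hfixc _ hF]

end Cfsg.Agent.CubicThree
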