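/-
Invariant subgroups of odd prime power order are centralized.
-/
import Mathlib
import Cfsg.Agent.Lib.CubicThree.Four

set_option autoImplicit false
set_option linter.style.haveILetI false

namespace Cfsg.Agent.CubicThree

open Module

variable {G : Type*} [Group G] [Finite G] {W : Type*} [AddCommGroup W] [Module (ZMod 3) W] [Finite W]
variable (C : Cfg G W)

omit [Finite G] in
theorem sq_facts {s : G} (hs : s * s = 1) : s⁻¹ = s := inv_eq_of_mul_eq_one_right hs

theorem Cfg.odd_centralized {q : ℕ} [hq : Fact q.Prime] (hq2 : q ≠ 2) (N : Subgroup G) (hNR : N ≤ C.R) (hN : IsPGroup q N)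
    (hz : ∀ n ∈ N, C.z * n * C.z⁻¹ ∈ N) (hb : ∀ n ∈ N, C.b * n * C.b⁻¹ ∈ N) : ∀ n ∈ N, C.b * n * C.b⁻¹ = n := by
  haveI := fact_three
  haveI : Module.Finite (ZMod 3) W := Module.Finite.of_finite
  haveI : Fact (Nat.Prime 5) := ⟨by norm_num⟩
  have hy : ∀ n ∈ N, C.y * n * C.y⁻¹ ∈ N := fun n hn => by
    have hbi : ∀ m ∈ N, C.b⁻¹ * m * C.b ∈ N := fun m hm => by
      have h := hb _ (hb m hm)
      have e : C.b⁻¹ = C.b * C.b := inv_eq_of_mul_eq_one_right (by rw [← mul_assoc, ← pow_two, ← pow_succ]; exact C.hb3)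
      have e' : C.b = (C.b * C.b)⁻¹ := by rw [← e, inv_inv]
      rw [e]
      convert h using 1
      conv_lhs => arg 2; rw [e']
      simp [mul_assoc]
    have := hb _ (hz _ (hbi n hn))
    convert this using 1
    simp [Cfg.y, mul_assoc]
  have hcomR : ∀ {x}, x ∈ N → (orderOf x).Coprime 3 := fun {x} hx =>
    C.hRcop.coprime_dvd_left (Subgroup.orderOf_dvd_natCard _ (hNR hx))
  have hodd : ∀ {x}, x ∈ N → Odd (orderOf x) := fun {x} hx => by
    obtain ⟨k, hk⟩ := hN ⟨x, hx⟩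
    have : orderOf x ∣ q ^ k := orderOf_dvd_of_pow_eq_one (congrArg Subtype.val hk)
    exact ((hq.out.odd_of_ne_two hq2).pow).of_dvd_nat this
  -- the three involutions
  have hzy2 : (C.z * C.y) * (C.z * C.y) = 1 := by
    rw [mul_assoc, ← mul_assoc C.y, ← C.zy, mul_assoc, C.y2, mul_one, C.hz2]
  have hry : finrank (ZMod 3) (comSpace C.ρ C.y) ≤ 2 := (finrank_conj_le C.ρ C.z C.b).trans C.rank_z
  let u : G → G → G := fun s n => s * n * s⁻¹ * n⁻¹
  have huN : ∀ s, (∀ n ∈ N, s * n * s⁻¹ ∈ N) → ∀ n ∈ N, u s n ∈ N := fun s hs n hn => mul_mem (hs n hn) (inv_mem hn)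
  have hinv : ∀ s n, s * s = 1 → s * u s n * s⁻¹ = (u s n)⁻¹ := fun s n hs => by
    simp [u, sq_facts hs, mul_assoc, ← mul_assoc s s, hs]
  have hcs : ∀ s n, s * s = 1 → comSpace C.ρ (u s n) ≤ comSpace C.ρ s ⊔ (comSpace C.ρ s).map (C.ρ n) := fun s n hs => by
    have h := comSpace_mul_le C.ρ s (n * s * n⁻¹)
    rw [comSpace_conj] at h
    convert h using 2
    simp [u, sq_facts hs, mul_assoc]
  have hfive : ∀ s, s * s = 1 → (∀ n ∈ N, s * n * s⁻¹ ∈ N) → finrank (ZMod 3) (comSpace C.ρ s) ≤ 2 →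
      ∀ n ∈ N, (u s n) ^ 5 = 1 := by
    intro s hs hsN hr n hn
    refine pow_five_eq_one C.ρ (u s n) s (fun x hx h => C.faith x (hNR ((Subgroup.zpowers_le.2 (huN s hsN n hn)) hx)) h)
      (hodd (huN s hsN n hn)) (hcomR (huN s hsN n hn)) (hinv s n hs) ?_
    refine ((Submodule.finrank_mono (hcs s n hs)).trans (Submodule.finrank_add_le_finrank_add_finrank _ _)).trans ?_
    have := Submodule.finrank_map_le (C.ρ n) (comSpace C.ρ s)
    omega
  have hcyc : ∀ s, s * s = 1 → (∀ n ∈ N, s * n * s⁻¹ ∈ N) → finrank (ZMod 3) (comSpace C.ρ s) ≤ 2 →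
      ∀ n ∈ N, ∀ m ∈ N, u s n ≠ 1 → u s m ∈ Subgroup.zpowers (u s n) := by
    intro s hs hsN hr n hn m hm hne
    set H := Subgroup.closure ({u s n, u s m} : Set G) with hH
    have hHN : H ≤ N := by
      rw [hH, Subgroup.closure_le]
      rintro x (rfl | rfl)
      · exact huN s hsN n hn
      · exact huN s hsN m hm
    have hq5 : q = 5 := by
      obtain ⟨k, hk⟩ := hN ⟨_, huN s hsN n hn⟩
      have h1 : orderOf (u s n) = 5 := orderOf_eq_prime (hfive s hs hsN hr n hn) hne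
      have h2 : 5 ∣ q ^ k := h1 ▸ orderOf_dvd_of_pow_eq_one (congrArg Subtype.val hk)
      exact ((Nat.prime_dvd_prime_iff_eq (by norm_num) hq.out).1 ((show Nat.Prime 5 by norm_num).dvd_of_dvd_pow h2)).symm
    set Y := comSpace C.ρ s ⊔ (comSpace C.ρ s).map (C.ρ n) ⊔ (comSpace C.ρ s).map (C.ρ m) with hY
    have hY6 : finrank (ZMod 3) Y ≤ 6 := by
      refine (Submodule.finrank_add_le_finrank_add_finrank _ _).trans ?_
      have h1 := Submodule.finrank_add_le_finrank_add_finrank (comSpace C.ρ s) ((comSpace C.ρ s).map (C.ρ n))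
      have h2 := Submodule.finrank_map_le (C.ρ n) (comSpace C.ρ s)
      have h3 := Submodule.finrank_map_le (C.ρ m) (comSpace C.ρ s)
      omega
    have hHY : ∀ h ∈ H, comSpace C.ρ h ≤ Y := by
      intro h hh
      induction hh using Subgroup.closure_induction with
      | mem x hx =>
        rcases hx with rfl | rfl
        · exact (hcs s n hs).trans le_sup_left
        · exact (hcs s m hs).trans (sup_le (le_sup_left.trans le_sup_left) le_sup_right)
      | one => rintro _ ⟨w, rfl⟩; simp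
      | mul a c _ _ iha ihc => exact (comSpace_mul_le C.ρ a c).trans (sup_le iha ihc)
      | inv a _ iha => rwa [comSpace_inv]
    have hH5 : IsPGroup 5 H := hq5 ▸ hN.to_le hHN
    have hcard := card_le_five C.ρ (fun h hh => C.faith h (hNR (hHN hh))) hH5 Y hY6 hHY
    have hle : Subgroup.zpowers (u s n) ≤ H := Subgroup.zpowers_le.2 (Subgroup.subset_closure (Or.inl rfl))
    rw [Subgroup.eq_of_le_of_card_ge hle (by
      rw [Nat.card_zpowers, orderOf_eq_prime (hfive s hs hsN hr n hn) hne]; exact hcard)]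
    exact Subgroup.subset_closure (Or.inr rfl)
  have hzyN : ∀ n ∈ N, (C.z * C.y) * n * (C.z * C.y)⁻¹ ∈ N := fun n hn => by
    have := hz _ (hy n hn)
    convert this using 1
    simp [mul_assoc]
  have hrzy : finrank (ZMod 3) (comSpace C.ρ (C.z * C.y)) ≤ 2 := by
    rw [← C.by']
    exact (finrank_conj_le C.ρ C.y C.b).trans hry
  have hbu : ∀ s n, C.b * u s n * C.b⁻¹ = u (C.b * s * C.b⁻¹) (C.b * n * C.b⁻¹) := fun s n => by
    simp [u, mul_assoc]
  have hbs : C.b * C.z * C.b⁻¹ = C.y := rfl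
  -- the involutions centralize N
  have hall : ∀ n ∈ N, u C.z n = 1 := by
    intro n hn
    by_contra hne
    set t := u C.z n with ht
    have htN : t ∈ N := huN _ hz n hn
    have ht5 : t ^ 5 = 1 := hfive _ C.hz2 hz C.rank_z n hn
    have htinv : t⁻¹ ≠ t := fun h => hne (by
      have h2 : t ^ 2 = 1 := by rw [pow_two]; nth_rewrite 1 [← h]; exact inv_mul_cancel t
      have := pow_gcd_eq_one.2 ⟨ht5, h2⟩
      simpa using this)
    have hconj : ∀ s : G, s * s = 1 → s * C.z = C.z * s → (∀ m ∈ N, s * m * s⁻¹ ∈ N) →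
        s * t * s⁻¹ = t ∨ s * t * s⁻¹ = t⁻¹ := by
      intro s hs hsz hsN
      have h1 : s * t * s⁻¹ = u C.z (s * n * s⁻¹) := by
        have hsz' : s * C.z * s⁻¹ = C.z := by rw [hsz, mul_inv_cancel_right]
        conv_rhs => rw [← hsz']
        simp [ht, u, mul_assoc]
      have h2 : s * t * s⁻¹ ∈ Subgroup.zpowers t := h1 ▸ hcyc _ C.hz2 hz C.rank_z n hn _ (hsN n hn) hne
      obtain ⟨k, hk⟩ := mem_powers_iff_mem_zpowers.2 h2
      simp only at hk
      have h3 : t ^ (k * k) = t := by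
        rw [pow_mul, hk, conj_pow, hk, sq_facts hs, ← mul_assoc, ← mul_assoc, hs, one_mul, mul_assoc, hs, mul_one]
      have hot : orderOf t = 5 := orderOf_eq_prime ht5 hne
      have h4 : k * k % 5 = 1 := by
        have h := pow_inj_mod.1 (h3.trans (pow_one t).symm)
        rwa [hot] at h
      have h5 : k % 5 = 1 ∨ k % 5 = 4 := by
        rw [Nat.mul_mod] at h4
        have : k % 5 < 5 := Nat.mod_lt _ (by norm_num)
        interval_cases h : k % 5 <;> simp_all
      rw [← hk, ← pow_mod_orderOf, hot]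
      rcases h5 with h | h <;> rw [h]
      · exact Or.inl (pow_one t)
      · exact Or.inr (eq_inv_of_mul_eq_one_left (by rw [← pow_succ]; exact ht5))
    have hzt : C.z * t * C.z⁻¹ = t⁻¹ := hinv _ n C.hz2
    have hback : ∀ s : G, s * s = 1 → s * t * s⁻¹ = t⁻¹ → u s (t ^ 2) = t := by
      intro s _ h
      show s * t ^ 2 * s⁻¹ * (t ^ 2)⁻¹ = t
      rw [← conj_pow, h, inv_pow, ← mul_inv_rev, ← pow_add]
      exact inv_eq_of_mul_eq_one_right (by rw [← pow_succ]; exact ht5)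
    -- b normalises the line
    have hbt : C.b * t * C.b⁻¹ ∈ Subgroup.zpowers t := by
      rcases hconj C.y C.y2 C.zy.symm hy with h | h
      · -- the product inverts
        have h' : (C.z * C.y) * t * (C.z * C.y)⁻¹ = t⁻¹ := by
          rw [show (C.z * C.y) * t * (C.z * C.y)⁻¹ = C.z * (C.y * t * C.y⁻¹) * C.z⁻¹ by simp [mul_assoc], h, hzt]
        have hgen : ∀ m ∈ N, u (C.z * C.y) m ∈ Subgroup.zpowers t := by
          intro m hm
          have := hcyc _ hzy2 hzyN hrzy (t ^ 2) (pow_mem htN 2) m hm (by rw [hback _ hzy2 h']; exact hne)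
          rwa [hback _ hzy2 h'] at this
        have hb2 : C.b * (C.b * t * C.b⁻¹) * C.b⁻¹ ∈ Subgroup.zpowers t := by
          rw [ht, hbu, hbu, hbs, C.by']
          exact hgen _ (hb _ (hb n hn))
        obtain ⟨j, hj⟩ := Subgroup.mem_zpowers_iff.1 hb2
        have h2 : C.b * (C.b * (C.b * (C.b * t * C.b⁻¹) * C.b⁻¹) * C.b⁻¹) * C.b⁻¹ ∈ Subgroup.zpowers t := by
          rw [← hj]
          have e : C.b * (C.b * t ^ j * C.b⁻¹) * C.b⁻¹ = (C.b * (C.b * t * C.b⁻¹) * C.b⁻¹) ^ j := by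
            rw [conj_zpow, conj_zpow]
          rw [e]
          exact zpow_mem hb2 j
        convert h2 using 1
        have hb3' : C.b * C.b * C.b = 1 := by rw [← pow_two, ← pow_succ]; exact C.hb3
        calc C.b * t * C.b⁻¹ = (C.b * C.b * C.b) * (C.b * t * C.b⁻¹) * (C.b * C.b * C.b)⁻¹ := by rw [hb3']; simp
          _ = _ := by simp [mul_assoc]
      · have := hcyc _ C.y2 hy hry (t ^ 2) (pow_mem htN 2) (C.b * n * C.b⁻¹) (hb n hn)
          (by rw [hback _ C.y2 h]; exact hne)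
        rw [hback _ C.y2 h, ← hbs, ← hbu] at this
        exact this
    obtain ⟨j, hj⟩ := mem_powers_iff_mem_zpowers.2 hbt
    simp only at hj
    have hot : orderOf t = 5 := orderOf_eq_prime ht5 hne
    have hj3 : t ^ (j * j * j) = t := by
      have e1 : C.b * (C.b * t * C.b⁻¹) * C.b⁻¹ = t ^ (j * j) := by
        rw [← hj, ← conj_pow, ← hj, pow_mul]
      have e2 : C.b * (C.b * (C.b * t * C.b⁻¹) * C.b⁻¹) * C.b⁻¹ = t ^ (j * j * j) := by
        rw [e1, ← conj_pow, ← hj, ← pow_mul, mul_comm j (j * j)]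
      rw [← e2]
      have hb3' : C.b * C.b * C.b = 1 := by rw [← pow_two, ← pow_succ]; exact C.hb3
      calc C.b * (C.b * (C.b * t * C.b⁻¹) * C.b⁻¹) * C.b⁻¹ = (C.b * C.b * C.b) * t * (C.b * C.b * C.b)⁻¹ := by
            simp [mul_assoc]
        _ = t := by rw [hb3']; simp
    have hj1 : j % 5 = 1 := by
      have h := pow_inj_mod.1 (hj3.trans (pow_one t).symm)
      rw [hot, Nat.mul_mod, Nat.mul_mod j j] at h
      have : j % 5 < 5 := Nat.mod_lt _ (by norm_num)
      interval_cases h' : j % 5 <;> simp_all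
    have hfix : C.b * t * C.b⁻¹ = t := by
      rw [← hj, ← pow_mod_orderOf, hot, hj1, pow_one]
    have hfix' : C.b⁻¹ * t * C.b = t := by
      conv_lhs => rw [← hfix]
      simp [mul_assoc]
    have hyt : C.y * t * C.y⁻¹ = t⁻¹ := by
      rw [show C.y * t * C.y⁻¹ = C.b * (C.z * (C.b⁻¹ * t * C.b) * C.z⁻¹) * C.b⁻¹ by simp [Cfg.y, mul_assoc],
        hfix', hzt, ← conj_inv, hfix]
    have hzyt : (C.z * C.y) * t * (C.z * C.y)⁻¹ = t⁻¹ := by
      rw [← C.by', show C.b * C.y * C.b⁻¹ * t * (C.b * C.y * C.b⁻¹)⁻¹ =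
        C.b * (C.y * (C.b⁻¹ * t * C.b) * C.y⁻¹) * C.b⁻¹ by simp [mul_assoc], hfix', hyt, ← conj_inv, hfix]
    apply htinv
    rw [← hzyt, show (C.z * C.y) * t * (C.z * C.y)⁻¹ = C.z * (C.y * t * C.y⁻¹) * C.z⁻¹ by simp [mul_assoc],
      hyt, ← conj_inv, hzt, inv_inv]
  intro n hn
  have hcz : n * C.z = C.z * n := (mul_inv_eq_iff_eq_mul.1 (mul_inv_eq_one.1 (hall n hn))).symm
  have hcy : n * C.y = C.y * n := by
    obtain ⟨m, hm, rfl⟩ : ∃ m ∈ N, C.b * m * C.b⁻¹ = n := ⟨C.b * (C.b * n * C.b⁻¹) * C.b⁻¹, hb _ (hb n hn), by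
      have hb3' : C.b * C.b * C.b = 1 := by rw [← pow_two, ← pow_succ]; exact C.hb3
      calc C.b * (C.b * (C.b * n * C.b⁻¹) * C.b⁻¹) * C.b⁻¹ = (C.b * C.b * C.b) * n * (C.b * C.b * C.b)⁻¹ := by
            simp [mul_assoc]
        _ = n := by rw [hb3']; simp⟩
    have hmz : m * C.z = C.z * m := (mul_inv_eq_iff_eq_mul.1 (mul_inv_eq_one.1 (hall m hm))).symm
    calc C.b * m * C.b⁻¹ * C.y = C.b * (m * C.z) * C.b⁻¹ := by simp [Cfg.y, mul_assoc]
      _ = C.b * (C.z * m) * C.b⁻¹ := by rw [hmz]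
      _ = _ := by simp [Cfg.y, mul_assoc]
  have h := C.comm_sq (hNR hn) hcz hcy
  have hw : C.b * n * C.b⁻¹ * n⁻¹ ∈ N := mul_mem (hb n hn) (inv_mem hn)
  have h2 : (C.b * n * C.b⁻¹ * n⁻¹) ^ 2 = 1 := by rw [pow_two]; exact h
  obtain ⟨k, hk⟩ := hodd hw
  have h1 := pow_orderOf_eq_one (C.b * n * C.b⁻¹ * n⁻¹)
  rw [hk, pow_succ, pow_mul, h2, one_pow, one_mul] at h1
  exact mul_inv_eq_one.1 h1

end Cfsg.Agent.CubicThree
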