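/-
Some invariant elementary abelian 2-subgroup is moved.
-/
import Mathlib
import Cfsg.Agent.Lib.CubicThree.Odd
import Cfsg.Agent.Lib.Solvable.Fitting
import Cfsg.Agent.Lib.Solvable.Basic
import Cfsg.Agent.Lib.Solvable.Structure

set_option autoImplicit false
set_option linter.style.haveILetI false

namespace Cfsg.Agent.CubicThree

open Module
open scoped commutatorElement

variable (G : Type*) [Group G] (W : Type*) [AddCommGroup W] [Module (ZMod 3) W]

/-- The irreducible configuration. -/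
structure Act extends Cfg G W where
  normal : R.Normal
  gen : R ⊔ Subgroup.zpowers b = ⊤
  solv : Group.IsSolvable G
  hRB : ⁅R, Subgroup.zpowers b⁆ = R
  irr : ∀ N : Submodule (ZMod 3) W, (∀ g : G, ∀ v ∈ N, ρ g v ∈ N) → N = ⊥ ∨ N = ⊤

variable {G W} [Finite G] [Finite W] (C : Act G W)

omit [Finite G] [Finite W] in
theorem Act.hb3' : C.b * C.b * C.b = 1 := by rw [← pow_two, ← pow_succ]; exact C.hb3

omit [Finite G] [Finite W] in
theorem Act.mem_gen {P : G → Prop} (hR : ∀ r ∈ C.R, P r) (hb : P C.b) (hb' : P C.b⁻¹)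
    (hmul : ∀ x y, P x → P y → P (x * y)) (g : G) : P g := by
  have hg : g ∈ Subgroup.closure ((C.R : Set G) ∪ {C.b}) := by
    have h : (⊤ : Subgroup G) ≤ Subgroup.closure ((C.R : Set G) ∪ {C.b}) := by
      rw [← C.gen]
      exact sup_le (fun r hr => Subgroup.subset_closure (Or.inl hr))
        (Subgroup.zpowers_le.2 (Subgroup.subset_closure (Or.inr rfl)))
    exact h trivial
  induction hg using Subgroup.closure_induction_left with
  | one => exact hR 1 (one_mem _)
  | mul_left x hx y _ ih =>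
    refine hmul _ _ ?_ ih
    rcases hx with hx | hx
    · exact hR x hx
    · rw [Set.mem_singleton_iff.1 hx]; exact hb
  | inv_mul_cancel x hx y _ ih =>
    refine hmul _ _ ?_ ih
    rcases hx with hx | hx
    · exact hR _ (inv_mem hx)
    · rw [Set.mem_singleton_iff.1 hx]; exact hb'

omit [Finite G] [Finite W] in
theorem Act.conj_b_inv (x : G) : C.b⁻¹ * x * C.b = C.b * (C.b * x * C.b⁻¹) * C.b⁻¹ := by
  have e : C.b⁻¹ = C.b * C.b := inv_eq_of_mul_eq_one_right (by rw [← mul_assoc]; exact C.hb3')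
  calc C.b⁻¹ * x * C.b = (C.b * C.b) * x * C.b := by rw [e]
    _ = (C.b * C.b) * x * (C.b * C.b)⁻¹ := by rw [← e, inv_inv]
    _ = _ := by simp [mul_assoc]

omit [Finite G] [Finite W] in
/-- A property of `r b r⁻¹ b⁻¹` closed under products and inverses holds on `R`. -/
theorem Act.R_le {K : Subgroup G} (h : ∀ r ∈ C.R, ⁅r, C.b⁆ ∈ K) : C.R ≤ K := by
  have hle : ⁅C.R, Subgroup.zpowers C.b⁆ ≤ K := by
    rw [Subgroup.commutator_le]
    intro r hr x hx
    have h2 : ∀ n : ℕ, ∀ r ∈ C.R, ⁅r, C.b ^ n⁆ ∈ K := by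
      intro n
      induction n with
      | zero => intro r _; simp
      | succ n ih =>
        intro r hr
        have e : ⁅r, C.b ^ (n + 1)⁆ = ⁅r, C.b⁆ * ⁅C.b * r * C.b⁻¹, C.b ^ n⁆ := by
          rw [pow_succ', (Commute.self_pow C.b n).eq]
          simp [commutatorElement_def, mul_assoc]
        rw [e]
        exact mul_mem (h r hr) (ih _ (C.hRb r hr))
    have hfin : IsOfFinOrder C.b := isOfFinOrder_iff_pow_eq_one.2 ⟨3, by norm_num, C.hb3⟩
    obtain ⟨n, rfl⟩ := hfin.mem_powers_iff_mem_zpowers.2 hx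
    exact h2 n r hr
  rwa [C.hRB] at hle

omit [Finite G] [Finite W] in
/-- A map from `R` unchanged by `b` is trivial. -/
theorem Act.hom_kill {M : Type*} [Group M] (f : C.R →* M)
    (h : ∀ r : C.R, f ⟨C.b * r * C.b⁻¹, C.hRb r r.2⟩ = f r) (r : C.R) : f r = 1 := by
  have hle : C.R ≤ f.ker.map C.R.subtype := C.R_le fun x hx => by
    refine ⟨⟨x, hx⟩ * ⟨C.b * x * C.b⁻¹, C.hRb x hx⟩⁻¹, ?_, by simp [commutatorElement_def, mul_assoc]⟩
    rw [SetLike.mem_coe, MonoidHom.mem_ker, map_mul, map_inv, h ⟨x, hx⟩, mul_inv_cancel]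
  obtain ⟨r', hr', e⟩ := hle r.2
  rw [← Subtype.ext (show (r' : G) = r from e)]
  exact MonoidHom.mem_ker.1 hr'

omit [Finite G] [Finite W] in
/-- Subgroups normalized by `R` and fixed by `b` are central. -/
theorem Act.central {M : Subgroup G} (hMn : M.Normal) (hfix : ∀ m ∈ M, C.b * m * C.b⁻¹ = m) :
    M ≤ Subgroup.center G := by
  have hR : C.R ≤ Subgroup.centralizer (M : Set G) := C.R_le fun r _ => by
    refine Subgroup.mem_centralizer_iff.2 fun m hm => ?_
    have h1 : C.b * (r⁻¹ * m * r) * C.b⁻¹ = r⁻¹ * m * r := hfix _ (by simpa using hMn.conj_mem m hm r⁻¹)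
    have h2 := hfix m hm
    have h3 : C.b⁻¹ * m * C.b = m := by
      conv_lhs => rw [← h2]
      simp [mul_assoc]
    have h4 : m * C.b⁻¹ = C.b⁻¹ * m := by
      conv_lhs => rw [← h3]
      simp [mul_assoc]
    rw [commutatorElement_def]
    calc m * (r * C.b * r⁻¹ * C.b⁻¹) = r * (r⁻¹ * m * r) * (C.b * r⁻¹ * C.b⁻¹) := by simp [mul_assoc]
      _ = r * (C.b * (r⁻¹ * m * r) * C.b⁻¹) * (C.b * r⁻¹ * C.b⁻¹) := by rw [h1]
      _ = r * C.b * r⁻¹ * (m * C.b⁻¹) := by simp [mul_assoc]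
      _ = r * C.b * r⁻¹ * (C.b⁻¹ * m) := by rw [h4]
      _ = r * C.b * r⁻¹ * C.b⁻¹ * m := by simp [mul_assoc]
  intro m hm
  refine Subgroup.mem_center_iff.2 (C.mem_gen (P := fun g => g * m = m * g) ?_ ?_ ?_ ?_)
  · exact fun r hr => ((Subgroup.mem_centralizer_iff.1 (hR hr)) m hm).symm
  · exact mul_inv_eq_iff_eq_mul.1 (hfix m hm)
  · exact (show Commute C.b m from mul_inv_eq_iff_eq_mul.1 (hfix m hm)).inv_left.eq
  · intro x y hx hy
    rw [mul_assoc, hy, ← mul_assoc, hx, mul_assoc]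

omit [Finite G] [Finite W] in
/-- Central involutions act as scalars. -/
theorem Act.rho_central {w : G} (hw : w ∈ Subgroup.center G) (h2 : w * w = 1) : C.ρ w = 1 ∨ C.ρ w = -1 := by
  have hinv : ∀ g : G, ∀ v ∈ LinearMap.ker (C.ρ w - 1), C.ρ g v ∈ LinearMap.ker (C.ρ w - 1) := fun g v hv => by
    rw [LinearMap.mem_ker, LinearMap.sub_apply, sub_eq_zero] at hv ⊢
    simp only [Module.End.one_apply] at hv ⊢
    rw [← rho_mul, ← Subgroup.mem_center_iff.1 hw g, rho_mul, hv]
  rcases C.irr _ hinv with h | h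
  · refine Or.inr (LinearMap.ext fun v => ?_)
    have : C.ρ w v + v ∈ LinearMap.ker (C.ρ w - 1) := by
      rw [LinearMap.mem_ker, LinearMap.sub_apply, sub_eq_zero, Module.End.one_apply, map_add, ← rho_mul, h2, map_one]
      simp [add_comm]
    rw [h, Submodule.mem_bot] at this
    exact eq_neg_of_add_eq_zero_left this
  · refine Or.inl (LinearMap.ext fun v => ?_)
    have : v ∈ LinearMap.ker (C.ρ w - 1) := h ▸ trivial
    rwa [LinearMap.mem_ker, LinearMap.sub_apply, sub_eq_zero] at this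

omit [Finite W] in
theorem Act.index_dvd : C.R.index ∣ 3 := by
  haveI := C.normal
  have htop : Subgroup.map (QuotientGroup.mk' C.R) (Subgroup.zpowers C.b) = ⊤ := by
    rw [← Subgroup.map_top_of_surjective _ (QuotientGroup.mk'_surjective C.R), ← C.gen, Subgroup.map_sup,
      QuotientGroup.map_mk'_self, bot_sup_eq]
  rw [Subgroup.index_eq_card, ← Subgroup.card_top, ← htop]
  refine (Subgroup.card_map_dvd (H := Subgroup.zpowers C.b) _).trans ?_
  rw [Nat.card_zpowers]
  exact orderOf_dvd_of_pow_eq_one C.hb3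

omit [Finite W] in
theorem Act.mem_R {x : G} (h : (orderOf x).Coprime 3) : x ∈ C.R := by
  haveI := C.normal
  rw [← QuotientGroup.eq_one_iff, ← orderOf_eq_one_iff]
  refine Nat.eq_one_of_dvd_coprimes h (orderOf_map_dvd (QuotientGroup.mk' C.R) x) ?_
  refine (orderOf_dvd_natCard _).trans ?_
  rw [← Subgroup.index_eq_card]
  exact C.index_dvd

include C in
omit [Finite W] in
theorem Act.pGroup_le_R {q : ℕ} [hq : Fact q.Prime] (hq3 : q ≠ 3) {P : Subgroup G} (hP : IsPGroup q P) : P ≤ C.R :=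
  fun x hx => C.mem_R (by
    obtain ⟨k, hk⟩ := hP ⟨x, hx⟩
    exact (Nat.Coprime.pow_left k ((Nat.coprime_primes hq.out Nat.prime_three).2 hq3)).coprime_dvd_left
      (orderOf_dvd_of_pow_eq_one (congrArg Subtype.val hk)))

include C in
omit [Finite W] in
theorem Act.two_orderOf {P : Subgroup G} (hP : IsPGroup 2 P) {x : G} (hx : x ∈ P) (h3 : x ^ 3 = 1) : x = 1 := by
  obtain ⟨k, hk⟩ := hP ⟨x, hx⟩
  have h1 : x ^ 2 ^ k = 1 := congrArg Subtype.val hk
  have := pow_gcd_eq_one.2 ⟨h1, h3⟩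
  rwa [(Nat.Coprime.pow_left k (by norm_num : Nat.Coprime 2 3)).gcd_eq_one, pow_one] at this

include C in
omit [Finite W] in
theorem Act.pCore_three : Cfsg.pCore 3 G = ⊥ := by
  haveI := C.normal
  haveI : (Cfsg.pCore 3 G).Normal := FittingCores.pCore_normal 3
  by_contra h
  obtain ⟨x, hx, hx1⟩ := (Subgroup.bot_or_exists_ne_one _).resolve_left h
  have hbot : ∀ y ∈ C.R, y ∈ Cfsg.pCore 3 G → y = 1 := fun y hy hy' => by
    obtain ⟨k, hk⟩ := (FittingCores.pCore_isPGroup (G := G) 3) ⟨y, hy'⟩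
    have h1 : orderOf y ∣ 3 ^ k := orderOf_dvd_of_pow_eq_one (congrArg Subtype.val hk)
    exact orderOf_eq_one_iff.1 (Nat.eq_one_of_dvd_coprimes
      ((C.hRcop.coprime_dvd_left (Subgroup.orderOf_dvd_natCard _ hy)).pow_right k) (dvd_refl _) h1)
  have hcent : ∀ r ∈ C.R, r * x = x * r := fun r hr => by
    rw [← commutatorElement_eq_one_iff_mul_comm]
    refine hbot _ ?_ ?_
    · rw [commutatorElement_def, mul_assoc, mul_assoc r x]
      exact mul_mem hr (by
        rw [← mul_assoc]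
        exact C.normal.conj_mem _ (inv_mem hr) x)
    · rw [commutatorElement_def]
      exact mul_mem (Subgroup.Normal.conj_mem inferInstance x hx r) (inv_mem hx)
  -- write x as a product
  have hxsup : x ∈ C.R ⊔ Subgroup.zpowers C.b := C.gen ▸ trivial
  obtain ⟨r, hr, y, hy, rfl⟩ := Subgroup.mem_sup_of_normal_left.1 hxsup
  have hfin : IsOfFinOrder C.b := isOfFinOrder_iff_pow_eq_one.2 ⟨3, by norm_num, C.hb3⟩
  obtain ⟨n, rfl⟩ := hfin.mem_powers_iff_mem_zpowers.2 hy
  have hn : C.b ^ (n % 3) = C.b ^ n := (pow_eq_pow_mod n C.hb3).symm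
  have hlt : n % 3 < 3 := Nat.mod_lt _ (by norm_num)
  -- conjugation by a power of b agrees with an inner automorphism
  have key : C.b ^ n * r * (C.b ^ n)⁻¹ = r := by
    have := hcent r hr
    calc C.b ^ n * r * (C.b ^ n)⁻¹ = r⁻¹ * (r * C.b ^ n * r) * (C.b ^ n)⁻¹ := by simp [mul_assoc]
      _ = r⁻¹ * (r * (r * C.b ^ n)) * (C.b ^ n)⁻¹ := by rw [this]
      _ = r := by simp [mul_assoc]
  have hbn3 : (C.b ^ n) ^ 3 = 1 := by rw [← pow_mul, mul_comm, pow_mul, C.hb3, one_pow]
  have hr3 : r ^ 3 = (r * C.b ^ n) ^ 3 := by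
    rw [(show Commute r (C.b ^ n) from (mul_inv_eq_iff_eq_mul.1 key).symm).mul_pow, hbn3, mul_one]
  have hr1 : r = 1 := by
    have h3 : r ^ 3 = 1 := hbot _ (pow_mem hr 3) (hr3 ▸ pow_mem hx 3)
    exact orderOf_eq_one_iff.1 (Nat.eq_one_of_dvd_coprimes
      (C.hRcop.coprime_dvd_left (Subgroup.orderOf_dvd_natCard _ hr)) (dvd_refl _) (orderOf_dvd_of_pow_eq_one h3))
  subst hr1
  rw [one_mul] at hx1 hcent
  apply C.hbz
  have hz := hcent C.z C.hzR
  replace hx1 : C.b ^ n ≠ 1 := hx1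
  replace hz : C.z * C.b ^ n = C.b ^ n * C.z := hz
  rw [← hn] at hx1 hz
  interval_cases hm : n % 3
  · exact absurd (pow_zero C.b) hx1
  · rw [pow_one] at hz; rw [← hz, mul_inv_cancel_right]
  · have hb : C.b = (C.b ^ 2) ^ 2 := by rw [← pow_mul, show 2 * 2 = 3 + 1 from rfl, pow_succ, C.hb3, one_mul]
    have : Commute C.z C.b := by rw [hb]; exact (show Commute C.z (C.b ^ 2) from hz).pow_right 2
    rw [this.symm.eq, mul_inv_cancel_right]

include C in
/-- Every invariant odd `q`-subgroup is central. -/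
theorem Act.odd_central {q : ℕ} [Fact q.Prime] (hq2 : q ≠ 2) (hq3 : q ≠ 3) {P : Subgroup G} (hPn : P.Normal)
    (hP : IsPGroup q P) : P ≤ Subgroup.center G :=
  C.central hPn (C.toCfg.odd_centralized hq2 P (C.pGroup_le_R hq3 hP) hP (fun n hn => hPn.conj_mem n hn _)
    (fun n hn => hPn.conj_mem n hn _))

include C in
theorem Act.fitting_le : Cfsg.fittingSubgroup G ≤ Subgroup.center G ⊔ Cfsg.pCore 2 G := by
  rw [FittingCores.fitting_eq_iSup_pCore]
  refine iSup_le fun p => ?_
  haveI : Fact (Nat.Prime p.1) := ⟨p.2⟩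
  by_cases h2 : (p : ℕ) = 2
  · rw [h2]; exact le_sup_right
  by_cases h3 : (p : ℕ) = 3
  · rw [h3, C.pCore_three]; exact bot_le
  exact le_sup_of_le_left (C.odd_central h2 h3 (FittingCores.pCore_normal _) (FittingCores.pCore_isPGroup _))

include C in
theorem Act.centralizer_le {x : G} (hx : ∀ n ∈ Cfsg.pCore 2 G, n * x = x * n) : x ∈ Cfsg.fittingSubgroup G := by
  haveI := C.solv
  refine FittingCores.centralizer_fitting_le (Subgroup.mem_centralizer_iff.2 fun f hf => ?_)
  obtain ⟨c, hc, n, hn, rfl⟩ := Subgroup.mem_sup_of_normal_left.1 (C.fitting_le hf)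
  rw [mul_assoc, hx n hn, ← mul_assoc, (Subgroup.mem_center_iff.1 hc x).symm, mul_assoc]

/-- The 2-core is moved. -/
theorem Act.exists_moved : ∃ n ∈ Cfsg.pCore 2 G, C.b * n * C.b⁻¹ ≠ n := by
  by_contra hno
  push Not at hno
  have hN := C.central (FittingCores.pCore_normal 2) hno
  have hF : Cfsg.fittingSubgroup G ≤ Subgroup.center G := C.fitting_le.trans (sup_le le_rfl hN)
  have hz : C.z ∈ Cfsg.fittingSubgroup G := C.centralizer_le fun n hn => (Subgroup.mem_center_iff.1 (hN hn) _).symm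
  exact C.hbz (by rw [Subgroup.mem_center_iff.1 (hF hz) C.b, mul_inv_cancel_right])

/-- Fixed involutions force fixed elements. -/
theorem Act.fix_of_omega {M : Subgroup G} (hM : IsPGroup 2 M) (hc : ∀ u ∈ M, ∀ v ∈ M, u * v = v * u)
    (hb : ∀ u ∈ M, C.b * u * C.b⁻¹ ∈ M) (h : ∀ u ∈ M, u * u = 1 → C.b * u * C.b⁻¹ = u) :
    ∀ u ∈ M, C.b * u * C.b⁻¹ = u := by
  have key : ∀ k : ℕ, ∀ u ∈ M, u ^ 2 ^ k = 1 → C.b * u * C.b⁻¹ = u := by
    intro k
    induction k with
    | zero => intro u _ hu; rw [pow_zero, pow_one] at hu; rw [hu]; simp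
    | succ k ih =>
      intro u hu hk
      have h2 : C.b * u ^ 2 * C.b⁻¹ = u ^ 2 := ih _ (pow_mem hu 2) (by rw [← pow_mul, ← pow_succ']; exact hk)
      set w := u⁻¹ * (C.b * u * C.b⁻¹) with hw
      have hwM : w ∈ M := mul_mem (inv_mem hu) (hb u hu)
      have hw2 : w * w = 1 := by
        rw [← pow_two, hw, (show Commute u⁻¹ (C.b * u * C.b⁻¹) from hc _ (inv_mem hu) _ (hb u hu)).mul_pow, inv_pow,
          conj_pow, h2, inv_mul_cancel]
      have hbu : C.b * u * C.b⁻¹ = u * w := by rw [hw, mul_inv_cancel_left]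
      have hbw := h w hwM hw2
      have h3 : u = u * w ^ 3 := by
        calc u = (C.b * C.b * C.b) * u * (C.b * C.b * C.b)⁻¹ := by rw [C.hb3']; simp
          _ = C.b * (C.b * (C.b * u * C.b⁻¹) * C.b⁻¹) * C.b⁻¹ := by simp [mul_assoc]
          _ = u * w ^ 3 := by
            have s1 : ∀ a c : G, C.b * (a * c) * C.b⁻¹ = C.b * a * C.b⁻¹ * (C.b * c * C.b⁻¹) := fun a c => by
              simp [mul_assoc]
            have e1 : C.b * (u * w) * C.b⁻¹ = u * w * w := by rw [s1, hbu, hbw]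
            rw [hbu, e1, s1, s1, hbu, hbw]
            simp [pow_succ, mul_assoc]
      have hw3 : w ^ 3 = 1 := mul_eq_left.1 h3.symm
      rw [hbu, C.two_orderOf hM hwM hw3, mul_one]
  intro u hu
  obtain ⟨k, hk⟩ := hM ⟨u, hu⟩
  exact key k u hu (congrArg Subtype.val hk)

/-- Some normal elementary abelian 2-subgroup is moved. -/
theorem Act.exists_elementary :
    ∃ D : Subgroup G, D.Normal ∧ (∀ u ∈ D, u * u = 1) ∧ (∀ u ∈ D, ∀ v ∈ D, u * v = v * u) ∧ D ≤ C.R ∧
      ∃ d ∈ D, C.b * d * C.b⁻¹ ≠ d := by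
  haveI := fact_three
  haveI : Fact (Nat.Prime 2) := ⟨Nat.prime_two⟩
  haveI : Module.Finite (ZMod 3) W := Module.Finite.of_finite
  haveI := C.normal
  haveI := C.solv
  set N := Cfsg.pCore 2 G with hN
  haveI hNn : N.Normal := FittingCores.pCore_normal 2
  have hN2 : IsPGroup 2 N := FittingCores.pCore_isPGroup 2
  have hNR : N ≤ C.R := C.pGroup_le_R (by norm_num) hN2
  by_contra hno
  push Not at hno
  have habel : ∀ M : Subgroup G, M.Normal → M ≤ N → (∀ u ∈ M, ∀ v ∈ M, u * v = v * u) → M ≤ Subgroup.center G := by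
    intro M hMn hMN hMc
    refine C.central hMn (C.fix_of_omega (hN2.to_le hMN) hMc (fun u hu => hMn.conj_mem u hu _) fun u hu hu2 => ?_)
    let Ω : Subgroup G :=
      { carrier := {u | u ∈ M ∧ u * u = 1}
        one_mem' := ⟨one_mem _, one_mul 1⟩
        mul_mem' := fun {a c} ha hc => ⟨mul_mem ha.1 hc.1, by
          rw [← pow_two, (show Commute a c from hMc a ha.1 c hc.1).mul_pow, pow_two, pow_two, ha.2, hc.2, one_mul]⟩
        inv_mem' := fun {a} ha => ⟨inv_mem ha.1, by rw [← _root_.mul_inv_rev, ha.2, inv_one]⟩ }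
    exact hno Ω ⟨fun a ha g => ⟨hMn.conj_mem a ha.1 g, by
      rw [show g * a * g⁻¹ * (g * a * g⁻¹) = g * (a * a) * g⁻¹ by simp [mul_assoc], ha.2]; simp⟩⟩
      (fun a ha => ha.2) (fun a ha c hc => hMc a ha.1 c hc.1) (fun a ha => hNR (hMN ha.1)) u ⟨hu, hu2⟩
  -- the centre of N is central
  set ZN := N ⊓ Subgroup.centralizer (N : Set G) with hZN
  have hZNc : ZN ≤ Subgroup.center G := habel ZN inferInstance inf_le_left fun u hu v hv =>
    (Subgroup.mem_centralizer_iff.1 hv.2 u hu.1)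
  -- class two
  have hclass : ∀ x ∈ N, ∀ y ∈ N, ⁅x, y⁆ ∈ ZN := by
    suffices hK : ⁅N, N⁆ ≤ ZN from fun x hx y hy => hK (Subgroup.commutator_mem_commutator hx hy)
    by_contra hK
    haveI : Group.IsNilpotent N := hN2.isNilpotent
    set q := QuotientGroup.mk' (Subgroup.center N) with hq
    haveI : Group.IsNilpotent (N ⧸ Subgroup.center N) := (hN2.to_quotient _).isNilpotent
    haveI : ((commutator N).map q).Normal := Subgroup.Normal.map inferInstance _ (QuotientGroup.mk'_surjective _)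
    have hne : (commutator N).map q ≠ ⊥ := by
      intro h
      apply hK
      rw [← Subgroup.map_subtype_commutator]
      rintro _ ⟨c, hc, rfl⟩
      have hcc : c ∈ Subgroup.center N :=
        (QuotientGroup.eq_one_iff c).1 (Subgroup.mem_bot.1 (h ▸ Subgroup.mem_map_of_mem q hc))
      exact ⟨c.2, Subgroup.mem_centralizer_iff.2 fun m hm => congrArg Subtype.val (Subgroup.mem_center_iff.1 hcc ⟨m, hm⟩)⟩
    obtain ⟨w, hw, hw1⟩ := (Subgroup.bot_or_exists_ne_one _).resolve_left (SolvStruct.inf_center_ne_bot hne)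
    obtain ⟨⟨c, hcK, rfl⟩, hwc⟩ := hw
    let Z2 : Subgroup G :=
      { carrier := {u | u ∈ N ∧ ∀ x ∈ N, ⁅x, u⁆ ∈ ZN}
        one_mem' := ⟨one_mem _, fun x _ => by simp⟩
        mul_mem' := fun {u v} hu hv => ⟨mul_mem hu.1 hv.1, fun x hx => by
          rw [show ⁅x, u * v⁆ = ⁅x, u⁆ * (u * ⁅x, v⁆ * u⁻¹) by simp [commutatorElement_def, mul_assoc],
            Subgroup.mem_center_iff.1 (hZNc (hv.2 x hx)) u, mul_inv_cancel_right]
          exact mul_mem (hu.2 x hx) (hv.2 x hx)⟩
        inv_mem' := fun {u} hu => ⟨inv_mem hu.1, fun x hx => by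
          rw [show ⁅x, u⁻¹⁆ = u⁻¹ * ⁅x, u⁆⁻¹ * u by simp [commutatorElement_def, mul_assoc],
            Subgroup.mem_center_iff.1 (hZNc (inv_mem (hu.2 x hx))) u⁻¹, inv_mul_cancel_right]
          exact inv_mem (hu.2 x hx)⟩ }
    have hZ2n : Z2.Normal := ⟨fun u hu g => ⟨hNn.conj_mem u hu.1 g, fun x hx => by
      rw [show ⁅x, g * u * g⁻¹⁆ = g * ⁅g⁻¹ * x * g, u⁆ * g⁻¹ by simp [commutatorElement_def, mul_assoc],
        Subgroup.mem_center_iff.1 (hZNc (hu.2 _ (by simpa using hNn.conj_mem x hx g⁻¹))) g, mul_inv_cancel_right]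
      exact hu.2 _ (by simpa using hNn.conj_mem x hx g⁻¹)⟩⟩
    have hcm : ∀ u ∈ Z2, ∀ k ∈ ⁅N, N⁆, k * u = u * k := by
      intro u hu k hk
      let K : Subgroup G :=
        { carrier := {x | x ∈ N ∧ x * u = u * x}
          one_mem' := ⟨one_mem _, by simp⟩
          mul_mem' := fun {a c} ha hc => ⟨mul_mem ha.1 hc.1, by rw [mul_assoc, hc.2, ← mul_assoc, ha.2, mul_assoc]⟩
          inv_mem' := fun {a} ha => ⟨inv_mem ha.1, (show Commute a u from ha.2).inv_left.eq⟩ }
      have hle : ⁅N, N⁆ ≤ K := by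
        rw [Subgroup.commutator_le]
        intro a ha c hc
        refine ⟨mul_mem (mul_mem (mul_mem ha hc) (inv_mem ha)) (inv_mem hc), ?_⟩
        obtain ⟨za, hza, ea⟩ : ∃ za ∈ ZN, a * u * a⁻¹ = za * u := ⟨⁅a, u⁆, hu.2 a ha, by simp [commutatorElement_def]⟩
        obtain ⟨zc, hzc, ec⟩ : ∃ zc ∈ ZN, c * u * c⁻¹ = zc * u := ⟨⁅c, u⁆, hu.2 c hc, by simp [commutatorElement_def]⟩
        have ca := Subgroup.mem_center_iff.1 (hZNc hza)
        have cc := Subgroup.mem_center_iff.1 (hZNc hzc)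
        have ea' : a⁻¹ * u * a = za⁻¹ * u := by
          calc a⁻¹ * u * a = za⁻¹ * (za * (a⁻¹ * u * a)) := by simp
            _ = za⁻¹ * (a⁻¹ * (za * u) * a) := by
                rw [← mul_assoc za, ← mul_assoc za, ← ca a⁻¹]; simp [mul_assoc]
            _ = za⁻¹ * u := by rw [← ea]; simp [mul_assoc]
        have ec' : c⁻¹ * u * c = zc⁻¹ * u := by
          calc c⁻¹ * u * c = zc⁻¹ * (zc * (c⁻¹ * u * c)) := by simp
            _ = zc⁻¹ * (c⁻¹ * (zc * u) * c) := by
                rw [← mul_assoc zc, ← mul_assoc zc, ← cc c⁻¹]; simp [mul_assoc]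
            _ = zc⁻¹ * u := by rw [← ec]; simp [mul_assoc]
        have : ⁅a, c⁆ * u * ⁅a, c⁆⁻¹ = u := by
          calc ⁅a, c⁆ * u * ⁅a, c⁆⁻¹ = a * (c * (a⁻¹ * (c⁻¹ * u * c) * a) * c⁻¹) * a⁻¹ := by
                simp [commutatorElement_def, mul_assoc]
            _ = a * (c * (a⁻¹ * (zc⁻¹ * u) * a) * c⁻¹) * a⁻¹ := by rw [ec']
            _ = a * (c * (zc⁻¹ * (a⁻¹ * u * a)) * c⁻¹) * a⁻¹ := by
                rw [← mul_assoc a⁻¹, Subgroup.mem_center_iff.1 (hZNc (inv_mem hzc)) a⁻¹]; simp [mul_assoc]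
            _ = a * (c * (zc⁻¹ * (za⁻¹ * u)) * c⁻¹) * a⁻¹ := by rw [ea']
            _ = a * (zc⁻¹ * za⁻¹ * (c * u * c⁻¹)) * a⁻¹ := by
                rw [← mul_assoc c zc⁻¹, Subgroup.mem_center_iff.1 (hZNc (inv_mem hzc)) c, mul_assoc zc⁻¹ c,
                  ← mul_assoc c za⁻¹, Subgroup.mem_center_iff.1 (hZNc (inv_mem hza)) c]; simp [mul_assoc]
            _ = a * (zc⁻¹ * za⁻¹ * (zc * u)) * a⁻¹ := by rw [ec]
            _ = a * (za⁻¹ * u) * a⁻¹ := by
                rw [← mul_assoc (zc⁻¹ * za⁻¹), mul_assoc zc⁻¹ za⁻¹ zc, cc za⁻¹, ← mul_assoc zc⁻¹, inv_mul_cancel, one_mul]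
            _ = za⁻¹ * (a * u * a⁻¹) := by
                rw [← mul_assoc a, Subgroup.mem_center_iff.1 (hZNc (inv_mem hza)) a]; simp [mul_assoc]
            _ = u := by rw [ea, inv_mul_cancel_left]
        exact mul_inv_eq_iff_eq_mul.1 this
      exact (hle hk).2
    have hc' : (c : G) ∈ ⁅N, N⁆ := by rw [← Subgroup.map_subtype_commutator]; exact ⟨c, hcK, rfl⟩
    have hc2 : (c : G) ∈ Z2 := by
      refine ⟨c.2, fun x hx => ?_⟩
      have h1 : ⁅(⟨x, hx⟩ : N), c⁆ ∈ Subgroup.center N := by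
        rw [← QuotientGroup.eq_one_iff, ← QuotientGroup.mk'_apply, map_commutatorElement]
        exact commutatorElement_eq_one_iff_mul_comm.2 (Subgroup.mem_center_iff.1 hwc _)
      refine ⟨(⁅(⟨x, hx⟩ : N), c⁆).2, Subgroup.mem_centralizer_iff.2 fun m hm => ?_⟩
      exact congrArg Subtype.val (Subgroup.mem_center_iff.1 h1 ⟨m, hm⟩)
    have hM := habel (⁅N, N⁆ ⊓ Z2) inferInstance (fun u hu => hu.2.1) (fun u hu v hv => hcm v hv.2 u hu.1) ⟨hc', hc2⟩
    apply hw1
    exact (QuotientGroup.eq_one_iff c).2 (Subgroup.mem_center_iff.2 fun m => Subtype.ext (Subgroup.mem_center_iff.1 hM m))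
  have hcc : ∀ x ∈ N, ∀ y ∈ N, ⁅x, y⁆ ∈ Subgroup.center G := fun x hx y hy => hZNc (hclass x hx y hy)
  have mulL : ∀ a c u : G, c ∈ N → u ∈ N → ⁅a * c, u⁆ = ⁅a, u⁆ * ⁅c, u⁆ := fun a c u hc hu => by
    have h := Subgroup.mem_center_iff.1 (hcc c hc u hu)
    calc ⁅a * c, u⁆ = (a * ⁅c, u⁆ * a⁻¹) * ⁅a, u⁆ := by simp [commutatorElement_def, mul_assoc]
      _ = _ := by rw [h a, mul_inv_cancel_right, (h _).symm]
  have powL : ∀ a ∈ N, ∀ u ∈ N, ∀ n : ℕ, ⁅a ^ n, u⁆ = ⁅a, u⁆ ^ n := fun a ha u hu n => by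
    induction n with
    | zero => simp
    | succ n ih => rw [pow_succ, mulL _ _ _ ha hu, ih, pow_succ]
  have hsq1 : ∀ x ∈ N, ∀ y ∈ N, ⁅x, y⁆ ^ 2 = 1 := by
    have key : ∀ k, (∀ x ∈ N, ∀ y ∈ N, ⁅x, y⁆ ^ 2 ^ k = 1) → ∀ x ∈ N, ∀ y ∈ N, ⁅x, y⁆ ^ 2 = 1 := by
      intro k
      induction k with
      | zero =>
        intro h x hx y hy
        have := h x hx y hy
        rw [pow_zero, pow_one] at this
        rw [this, one_pow]
      | succ k ih =>
        intro h
        rcases Nat.eq_zero_or_pos k with rfl | hk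
        · simpa using h
        refine ih fun x hx y hy => ?_
        set S : Set G := (ZN : Set G) ∪ {u : G | ∃ x ∈ N, u = x ^ 2 ^ k} with hS
        have hSN : ∀ u ∈ S, u ∈ N := by
          rintro u (hu | ⟨a, ha, rfl⟩)
          · exact hu.1
          · exact pow_mem ha _
        haveI hWc : IsMulCommutative (Subgroup.closure S) := Subgroup.isMulCommutative_closure (by
          rintro u (hu | ⟨a, ha, rfl⟩) v (hv | ⟨c, hc, rfl⟩)
          · exact (Subgroup.mem_center_iff.1 (hZNc hu) v).symm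
          · exact (Subgroup.mem_center_iff.1 (hZNc hu) _).symm
          · exact Subgroup.mem_center_iff.1 (hZNc hv) _
          · refine commutatorElement_eq_one_iff_mul_comm.1 ?_
            rw [powL a ha _ (pow_mem hc _), ← commutatorElement_inv, powL c hc a ha, ← inv_pow, commutatorElement_inv,
              ← pow_mul, ← pow_add, show k + k = (k + 1) + (k - 1) by omega, pow_add, pow_mul, h a ha c hc, one_pow])
        have hWn : (Subgroup.closure S).Normal := by
          refine ⟨fun w hw g => ?_⟩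
          induction hw using Subgroup.closure_induction with
          | mem w hw =>
            rcases hw with hw | ⟨a, ha, rfl⟩
            · exact Subgroup.subset_closure (Or.inl ((show ZN.Normal from inferInstance).conj_mem w hw g))
            · exact Subgroup.subset_closure (Or.inr ⟨g * a * g⁻¹, hNn.conj_mem a ha g, conj_pow.symm⟩)
          | one => simp
          | mul p r _ _ ihp ihr =>
            rw [show g * (p * r) * g⁻¹ = g * p * g⁻¹ * (g * r * g⁻¹) by simp [mul_assoc]]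
            exact mul_mem ihp ihr
          | inv p _ ihp =>
            rw [show g * p⁻¹ * g⁻¹ = (g * p * g⁻¹)⁻¹ by simp [mul_assoc]]
            exact inv_mem ihp
        have hc := habel (Subgroup.closure S) hWn (by rw [Subgroup.closure_le]; exact hSN)
          (fun u hu v hv => congrArg Subtype.val (mul_comm' (⟨u, hu⟩ : Subgroup.closure S) ⟨v, hv⟩))
          (Subgroup.subset_closure (Or.inr ⟨x, hx, rfl⟩))
        rw [← powL x hx y hy]
        exact commutatorElement_eq_one_iff_mul_comm.2 (Subgroup.mem_center_iff.1 hc y).symm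
    obtain ⟨m, hm⟩ := IsPGroup.iff_card.1 hN2
    refine key m fun x hx y hy => ?_
    have hmem : ⁅x, y⁆ ∈ N := (hclass x hx y hy).1
    exact orderOf_dvd_iff_pow_eq_one.1 (hm ▸ Subgroup.orderOf_dvd_natCard _ hmem)
  have hfixc : ∀ x ∈ N, ∀ y ∈ N, C.b * ⁅x, y⁆ * C.b⁻¹ = ⁅x, y⁆ := fun x hx y hy => by
    rw [Subgroup.mem_center_iff.1 (hcc x hx y hy) C.b, mul_inv_cancel_right]
  have hsc : ∀ x ∈ N, x ^ 2 ∈ ZN := fun x hx => ⟨pow_mem hx 2, Subgroup.mem_centralizer_iff.2 fun y hy =>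
    (commutatorElement_eq_one_iff_mul_comm.1 (by rw [powL x hx y hy, hsq1 x hx y hy])).symm⟩
  -- a commutator with its image
  set φ : G → G := fun x => C.b * x * C.b⁻¹ with hφ
  have hφN : ∀ x ∈ N, φ x ∈ N := fun x hx => hNn.conj_mem x hx _
  obtain ⟨n, hn, hne⟩ : ∃ n ∈ N, ⁅φ n, n⁆ ≠ 1 := by
    by_contra hall
    push Not at hall
    obtain ⟨m, hm, hmoved⟩ := C.exists_moved
    apply hmoved
    have hz : m⁻¹ * φ (φ m) ∈ ZN := by
      refine Subgroup.mem_inf.2 ⟨mul_mem (inv_mem hm) (hφN _ (hφN m hm)), Subgroup.mem_centralizer_iff.2 fun k hk => ?_⟩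
      obtain ⟨n, hn, rfl⟩ : ∃ n ∈ N, φ n = k := ⟨φ (φ k), hφN _ (hφN k hk), by
        show C.b * (C.b * (C.b * k * C.b⁻¹) * C.b⁻¹) * C.b⁻¹ = k
        calc _ = (C.b * C.b * C.b) * k * (C.b * C.b * C.b)⁻¹ := by simp [mul_assoc]
          _ = k := by rw [C.hb3']; simp⟩
      refine (commutatorElement_eq_one_iff_mul_comm.1 ?_).symm
      have mN : φ m ∈ N := hφN m hm
      have nN : φ n ∈ N := hφN n hn
      have p1 : ⁅φ m, n⁆ * ⁅φ n, m⁆ = 1 := by
        have h := hall _ (mul_mem hn hm)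
        have e : φ (n * m) = φ n * φ m := by simp [φ, mul_assoc]
        rw [e, mulL _ _ _ mN (mul_mem hn hm), ← commutatorElement_inv (n * m) (φ n),
          ← commutatorElement_inv (n * m) (φ m), mulL n m _ hm nN, mulL n m _ hm mN, _root_.mul_inv_rev,
          _root_.mul_inv_rev, commutatorElement_inv, commutatorElement_inv, commutatorElement_inv,
          commutatorElement_inv, hall n hn, hall m hm, mul_one, one_mul] at h
        rw [← h]; exact (Subgroup.mem_center_iff.1 (hcc _ nN m hm) _)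
      have p2 : ⁅φ (φ m), φ n⁆ = ⁅φ m, n⁆ := by
        have := hfixc _ mN n hn
        simpa [φ, commutatorElement_def, mul_assoc] using this
      rw [mulL m⁻¹ _ _ (hφN _ mN) nN, p2]
      have p3 : ⁅m⁻¹, φ n⁆ = ⁅m, φ n⁆⁻¹ := by
        have := mulL m⁻¹ m (φ n) hm nN
        rw [inv_mul_cancel, commutatorElement_one_left] at this
        exact eq_inv_of_mul_eq_one_left this.symm
      rw [p3, commutatorElement_inv, Subgroup.mem_center_iff.1 (hcc _ mN n hn) _]
      exact p1
    have hm2 : φ (φ m) = m * (m⁻¹ * φ (φ m)) := by simp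
    set c := m⁻¹ * φ (φ m) with hc
    have hcfix : φ c = c := by
      show C.b * c * C.b⁻¹ = c
      rw [Subgroup.mem_center_iff.1 (hZNc hz) C.b, mul_inv_cancel_right]
    have hper : ∀ x, φ (φ (φ x)) = x := fun x => by
      show C.b * (C.b * (C.b * x * C.b⁻¹) * C.b⁻¹) * C.b⁻¹ = x
      calc _ = (C.b * C.b * C.b) * x * (C.b * C.b * C.b)⁻¹ := by simp [mul_assoc]
        _ = x := by rw [C.hb3']; simp
    have hφmul : ∀ a d, φ (a * d) = φ a * φ d := fun a d => by simp [φ, mul_assoc]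
    have hc3 : c ^ 3 = 1 := by
      have h6 : φ (φ (φ (φ (φ (φ m))))) = m := by rw [hper, hper]
      have e2 : φ (φ (m * c)) = m * c * c := by rw [hφmul m c, hφmul (φ m) (φ c), hcfix, hcfix, hm2]
      have e3 : φ (φ (m * c * c)) = m * c * c * c := by
        rw [hφmul (m * c) c, hφmul (φ (m * c)) (φ c), hcfix, hcfix, e2]
      rw [hm2, e2, e3] at h6
      rw [mul_assoc, mul_assoc, mul_eq_left] at h6
      rw [← h6]; simp [pow_succ, mul_assoc]
    rw [C.two_orderOf hN2 hz.1 hc3, mul_one] at hm2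
    have := congrArg φ hm2
    rw [hper] at this
    exact this.symm
  have hεc := hcc _ (hφN n hn) n hn
  have hρε : C.ρ ⁅φ n, n⁆ = -1 := by
    rcases C.rho_central hεc (by rw [← pow_two]; exact hsq1 _ (hφN n hn) n hn) with h | h
    · exact absurd (C.faith _ (hNR (hclass _ (hφN n hn) n hn).1) h) hne
    · exact h
  set c := n⁻¹ * φ n with hcdef
  have hc2 : C.ρ (c * c) = -1 := by
    have hn2 : φ (n ^ 2) = n ^ 2 := by
      show C.b * n ^ 2 * C.b⁻¹ = n ^ 2
      rw [Subgroup.mem_center_iff.1 (hZNc (hsc n hn)) C.b, mul_inv_cancel_right]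
    have hpn : φ n * φ n = n * n := by rw [← pow_two n, ← hn2]; simp [φ, pow_two, mul_assoc]
    have hε' : ⁅φ n, n⁻¹⁆ = ⁅φ n, n⁆⁻¹ := by
      rw [← commutatorElement_inv, show ⁅n⁻¹, φ n⁆ = ⁅n, φ n⁆⁻¹ from (by
        have := mulL n⁻¹ n (φ n) hn (hφN n hn)
        rw [inv_mul_cancel, commutatorElement_one_left] at this
        exact eq_inv_of_mul_eq_one_left this.symm), inv_inv, commutatorElement_inv n (φ n) |>.symm, inv_inv]
    have hcm : c * c = ⁅φ n, n⁻¹⁆ := by
      have hcen := Subgroup.mem_center_iff.1 (hcc _ (hφN n hn) _ (inv_mem hn))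
      have e : φ n * n⁻¹ = ⁅φ n, n⁻¹⁆ * n⁻¹ * φ n := by simp [commutatorElement_def, mul_assoc]
      calc c * c = n⁻¹ * (φ n * n⁻¹) * φ n := by simp [hcdef, mul_assoc]
        _ = n⁻¹ * (⁅φ n, n⁻¹⁆ * n⁻¹ * φ n) * φ n := by rw [e]
        _ = (n⁻¹ * ⁅φ n, n⁻¹⁆) * (n⁻¹ * (φ n * φ n)) := by simp [mul_assoc]
        _ = (⁅φ n, n⁻¹⁆ * n⁻¹) * (n⁻¹ * (n * n)) := by rw [hcen, hpn]
        _ = _ := by simp [mul_assoc]
    rw [hcm, hε', inv_eq_of_mul_eq_one_right (by rw [← pow_two]; exact hsq1 _ (hφN n hn) n hn), hρε]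
  -- dimension bound
  set F := LinearMap.ker (C.ρ C.b - 1) with hFdef
  have hdisj : F ⊓ F.map (C.ρ n) = ⊥ := by
    rw [Submodule.eq_bot_iff]
    rintro v ⟨hv, w, hw, rfl⟩
    have hw' : C.ρ C.b w = w := sub_eq_zero.1 (LinearMap.mem_ker.1 hw)
    have hv' : C.ρ C.b (C.ρ n w) = C.ρ n w := sub_eq_zero.1 (LinearMap.mem_ker.1 hv)
    have h1 : C.ρ c w = w := by
      have hbw : C.ρ C.b⁻¹ w = w := by conv_lhs => rw [← hw', rho_inv]
      rw [hcdef, rho_mul]
      show C.ρ n⁻¹ (C.ρ (C.b * n * C.b⁻¹) w) = w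
      rw [rho_mul, rho_mul, hbw, hv', rho_inv]
    have h2 : C.ρ (c * c) w = w := by rw [rho_mul, h1, h1]
    rw [hc2] at h2
    have hw0 : w = 0 := by
      have h3 := three_smul_zero w
      rw [show w + w = 0 from by
        nth_rewrite 1 [← h2]
        simp] at h3
      simpa using h3
    rw [hw0, map_zero]
  set d := finrank (ZMod 3) W with hd
  have hFd : d - 2 ≤ finrank (ZMod 3) F := by
    have := LinearMap.finrank_range_add_finrank_ker (C.ρ C.b - 1)
    have h2 : finrank (ZMod 3) (LinearMap.range (C.ρ C.b - 1)) ≤ 2 := C.rank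
    rw [← hFdef] at this
    omega
  have hd4 : d ≤ 4 := by
    have h1 := Submodule.finrank_sup_add_finrank_inf_eq F (F.map (C.ρ n))
    rw [hdisj, finrank_bot, add_zero] at h1
    have h2 : finrank (ZMod 3) (F.map (C.ρ n)) = finrank (ZMod 3) F :=
      (LinearEquiv.finrank_eq (Submodule.equivMapOfInjective (C.ρ n) (fun a e hae => by
        have := congrArg (C.ρ n⁻¹) hae; rwa [rho_inv, rho_inv] at this) F)).symm
    have h3 := Submodule.finrank_le (F ⊔ F.map (C.ρ n))
    omega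
  have hdet : (-1 : ZMod 3) ^ d = (LinearMap.det (C.ρ c)) * (LinearMap.det (C.ρ c)) := by
    rw [← map_mul LinearMap.det, ← map_mul C.ρ, hc2, show (-1 : Module.End (ZMod 3) W) = (-1 : ZMod 3) • 1 by simp,
      LinearMap.det_smul, map_one, mul_one]
  have hd4' : d = 4 := by
    obtain ⟨l1, l2, l3, -⟩ := C.toCfg.finrank_facts
    have hd3 : 3 ≤ d := by
      obtain ⟨h11, hnn⟩ := zmod3_sign
      set L1 := C.toCfg.L 1 (-1)
      set L2 := C.toCfg.L (-1) 1
      set L3 := C.toCfg.L (-1) (-1)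
      have e1 : L1 ⊓ L2 = ⊥ := by
        rw [Submodule.eq_bot_iff]
        intro v hv
        rw [← C.toCfg.P_self h11 hnn hv.1]
        exact C.toCfg.P_other h11 hnn hnn h11 (by decide) hv.2
      have e2 : (L1 ⊔ L2) ⊓ L3 = ⊥ := by
        rw [Submodule.eq_bot_iff]
        intro v hv
        rw [← C.toCfg.P_self hnn hnn hv.2]
        have hle : L1 ⊔ L2 ≤ LinearMap.ker (C.toCfg.P (-1) (-1)) := by
          refine sup_le ?_ ?_ <;> intro u hu <;> rw [LinearMap.mem_ker]
          · exact C.toCfg.P_other hnn hnn h11 hnn (by decide) hu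
          · exact C.toCfg.P_other hnn hnn hnn h11 (by decide) hu
        exact hle hv.1
      have f1 := Submodule.finrank_sup_add_finrank_inf_eq L1 L2
      rw [e1, finrank_bot, l1, l2] at f1
      have f2 := Submodule.finrank_sup_add_finrank_inf_eq (L1 ⊔ L2) L3
      rw [e2, finrank_bot, l3] at f2
      have f3 := Submodule.finrank_le (L1 ⊔ L2 ⊔ L3)
      omega
    by_contra h
    have h3 : d = 3 := by omega
    rw [h3] at hdet
    have key : ∀ x : ZMod 3, (-1 : ZMod 3) ^ 3 ≠ x * x := zmod3_neg_one_not_sq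
    exact key _ hdet
  -- the order of R
  have hRdvd : Nat.card C.R ∣ 2 ^ 9 * (5 * 13) := by
    have h := card_dvd_of_comSpace C.ρ C.faith C.hRcop ⊤ (fun _ _ => le_top)
    rw [card_units_end, finrank_top, ← hd, hd4'] at h
    have h' : Nat.card C.R ∣ 2 ^ 9 * (5 * 13) * 3 ^ 6 := by
      refine h.trans (dvd_of_eq ?_)
      norm_num [Fin.prod_univ_succ]
    exact (C.hRcop.pow_right 6).dvd_of_dvd_mul_right h'
  have hno13 : ¬ 13 ∣ Nat.card C.R := by
    intro h13
    haveI : Fact (Nat.Prime 13) := ⟨by norm_num⟩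
    obtain ⟨⟨r, hr⟩, hro⟩ := exists_prime_orderOf_dvd_card' (G := C.R) 13 h13
    rw [Subgroup.orderOf_mk] at hro
    have hp13 : IsPGroup 13 (Subgroup.zpowers r) := IsPGroup.of_card (n := 1) (by rw [Nat.card_zpowers, hro, pow_one])
    -- r centralizes N
    letI : MulAction (Subgroup.zpowers r) N :=
      { smul := fun g m => ⟨(g : G) * m * (g : G)⁻¹, hNn.conj_mem m m.2 _⟩
        one_smul := fun m => Subtype.ext (show ((1 : Subgroup.zpowers r) : G) * m * ((1 : Subgroup.zpowers r) : G)⁻¹ = m by simp)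
        mul_smul := fun g g' m => Subtype.ext (show ((g * g' : Subgroup.zpowers r) : G) * m * ((g * g' : Subgroup.zpowers r) : G)⁻¹ =
          (g : G) * ((g' : G) * m * (g' : G)⁻¹) * (g : G)⁻¹ by simp [mul_assoc]) }
    have hmod := hp13.card_modEq_card_fixedPoints N
    set Cn := (N ⊓ Subgroup.centralizer ({r} : Set G)) with hCn
    have hfix : Nat.card (MulAction.fixedPoints (Subgroup.zpowers r) N) = Nat.card Cn := by
      refine Nat.card_congr
        { toFun := fun m => ⟨(m.1 : G), m.1.2, Subgroup.mem_centralizer_singleton_iff.2 ?_⟩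
          invFun := fun m => ⟨⟨(m : G), m.2.1⟩, fun g => ?_⟩
          left_inv := fun m => rfl
          right_inv := fun m => rfl }
      · have := congrArg Subtype.val (m.2 ⟨r, Subgroup.mem_zpowers r⟩)
        exact (mul_inv_eq_iff_eq_mul.1 this).symm
      · obtain ⟨i, hi⟩ := Subgroup.mem_zpowers_iff.1 g.2
        refine Subtype.ext ?_
        show (g : G) * m * (g : G)⁻¹ = m
        rw [← hi, ((show Commute r (m : G) from (Subgroup.mem_centralizer_singleton_iff.1 m.2.2).symm).zpow_left i).eq,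
          mul_inv_cancel_right]
    rw [hfix] at hmod
    obtain ⟨i, hi⟩ := IsPGroup.iff_card.1 hN2
    obtain ⟨j, hj⟩ := IsPGroup.iff_card.1 (hN2.to_le (inf_le_left : Cn ≤ N))
    have hi9 : i ≤ 9 := by
      have h1 : 2 ^ i ∣ 2 ^ 9 * (5 * 13) := hi ▸ (Subgroup.card_dvd_of_le hNR).trans hRdvd
      have h2 : 2 ^ i ∣ 2 ^ 9 := (Nat.Coprime.pow_left i (by norm_num)).dvd_of_dvd_mul_right h1
      exact (Nat.pow_dvd_pow_iff_le_right (by norm_num)).1 h2
    have hji : j ≤ i := by
      have := Subgroup.card_le_of_le (inf_le_left : Cn ≤ N)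
      rw [hi, hj] at this
      exact (Nat.pow_le_pow_iff_right (by norm_num)).1 this
    rw [hi, hj] at hmod
    have hij : j = i := by
      interval_cases i <;> interval_cases j <;> first | rfl | (exfalso; revert hmod; decide)
    have hall : N ≤ Cn := (Subgroup.eq_of_le_of_card_ge inf_le_left (by rw [hi, hj, hij])).ge
    have hrF : r ∈ Cfsg.fittingSubgroup G := C.centralizer_le fun m hm =>
      Subgroup.mem_centralizer_singleton_iff.1 (hall hm).2
    obtain ⟨c, hc, m, hm, hcm⟩ := Subgroup.mem_sup_of_normal_left.1 (C.fitting_le hrF)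
    -- hence central
    obtain ⟨l, hl⟩ := hN2 ⟨m, hm⟩
    have hm1 : m ^ 2 ^ l = 1 := congrArg Subtype.val hl
    have hrc : r ∈ Subgroup.center G := by
      have h1 : r ^ 2 ^ l ∈ Subgroup.center G := by
        rw [← hcm, (show Commute c m from (Subgroup.mem_center_iff.1 hc m).symm).mul_pow, hm1, mul_one]
        exact pow_mem hc _
      obtain ⟨t, ht⟩ := exists_pow_eq_self_of_coprime (n := 2 ^ l) (x := r) (by
        rw [hro]; exact (Nat.Coprime.pow_left l (by norm_num)))
      rw [← ht]; exact pow_mem h1 t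
    have hr1 : r ≠ 1 := fun h => by rw [h, orderOf_one] at hro; omega
    have hfixr : LinearMap.ker (C.ρ r - 1) = ⊥ := by
      refine (C.irr _ fun g v hv => ?_).resolve_right fun h => hr1 (C.faith r hr (LinearMap.ext fun v => ?_))
      · rw [LinearMap.mem_ker, LinearMap.sub_apply, sub_eq_zero] at hv ⊢
        simp only [Module.End.one_apply] at hv ⊢
        rw [← rho_mul, ← Subgroup.mem_center_iff.1 hrc g, rho_mul, hv]
      · have : v ∈ LinearMap.ker (C.ρ r - 1) := h ▸ trivial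
        rwa [LinearMap.mem_ker, LinearMap.sub_apply, sub_eq_zero] at this
    letI : MulAction (Subgroup.zpowers r) W :=
      { smul := fun g v => C.ρ (g : G) v
        one_smul := fun v => show C.ρ ((1 : Subgroup.zpowers r) : G) v = v by rw [OneMemClass.coe_one, map_one]; rfl
        mul_smul := fun g g' v => rho_mul C.ρ (g : G) g' v }
    have hmod' := hp13.card_modEq_card_fixedPoints W
    have hfix1 : Nat.card (MulAction.fixedPoints (Subgroup.zpowers r) W) = 1 := by
      rw [Nat.card_eq_one_iff_unique]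
      have hz : ∀ v : MulAction.fixedPoints (Subgroup.zpowers r) W, (v : W) = 0 := fun v => by
        have h : (v : W) ∈ LinearMap.ker (C.ρ r - 1) := by
          rw [LinearMap.mem_ker, LinearMap.sub_apply, sub_eq_zero]
          exact v.2 ⟨r, Subgroup.mem_zpowers r⟩
        rwa [hfixr, Submodule.mem_bot] at h
      exact ⟨⟨fun u v => Subtype.ext ((hz u).trans (hz v).symm)⟩, ⟨⟨0, fun g => map_zero (C.ρ (g : G))⟩⟩⟩
    rw [hfix1, Module.natCard_eq_pow_finrank (K := ZMod 3), Nat.card_zmod, ← hd, hd4'] at hmod'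
    revert hmod'; decide
  have hR5 : Nat.card C.R ∣ 2 ^ 9 * 5 := by
    rw [← mul_assoc] at hRdvd
    exact ((Nat.coprime_comm.1 ((Nat.Prime.coprime_iff_not_dvd (by norm_num)).2 hno13))).dvd_of_dvd_mul_right hRdvd
  -- R is contained in N
  have hRN : C.R ≤ N := by
    by_contra hle
    set q := QuotientGroup.mk' N with hq
    have hRn : (C.R.map q).Normal := C.normal.map _ (QuotientGroup.mk'_surjective _)
    have hne : C.R.map q ≠ ⊥ := fun h => hle fun x hx =>
      (QuotientGroup.eq_one_iff x).1 (Subgroup.mem_bot.1 (h ▸ Subgroup.mem_map_of_mem q hx))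
    haveI : Group.IsSolvable (G ⧸ N) := Group.isSolvable_of_surjective (QuotientGroup.mk'_surjective N)
    obtain ⟨M, p, hp, hMn, hM1, hMR, -, -, hMp, -⟩ := SolvBasic.exists_minimal_normal_abelian hRn hne
    haveI := hMn
    haveI : Fact p.Prime := ⟨hp⟩
    have hp2 : p ≠ 2 := by
      rintro rfl
      apply hM1
      have hK : M.comap q ≤ N := FittingCores.le_pCore (hMn.comap q) (by
        refine IsPGroup.comap_of_ker_isPGroup hMp q ?_
        rw [hq, QuotientGroup.ker_mk']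
        exact hN2)
      rw [← Subgroup.map_comap_eq_self_of_surjective (QuotientGroup.mk'_surjective N) M, eq_bot_iff]
      exact (Subgroup.map_mono hK).trans (QuotientGroup.map_mk'_self N).le
    obtain ⟨k, hk⟩ := IsPGroup.iff_card.1 hMp
    have hMdvd : Nat.card M ∣ 2 ^ 9 * 5 :=
      ((Subgroup.card_dvd_of_le hMR).trans (Subgroup.card_map_dvd C.R q)).trans hR5
    have hM5 : Nat.card M = 5 := by
      rw [hk] at hMdvd ⊢
      have h5 : p ^ k ∣ 5 :=
        (Nat.Coprime.pow_left k (Nat.Coprime.pow_right 9 ((Nat.coprime_primes hp Nat.prime_two).2 hp2))).dvd_of_dvd_mul_left hMdvd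
      rcases (Nat.dvd_prime (by norm_num)).1 h5 with h | h
      · exact absurd (Subgroup.card_eq_one.1 (hk.trans h)) hM1
      · exact h
    haveI : Fact (Nat.Prime 5) := ⟨by norm_num⟩
    haveI : IsCyclic M := isCyclic_of_prime_card hM5
    -- the quotient centralizes M
    let χ : C.R →* MulAut M := (MulAut.conjNormal (H := M)).comp (q.comp C.R.subtype)
    have hcommA : ∀ f g : MulAut M, f * g = g * f := fun f g =>
      (IsCyclic.mulAutMulEquiv M).injective (by rw [map_mul, map_mul, mul_comm])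
    have hχ : ∀ r, χ r = 1 := C.hom_kill χ fun r => by
      show MulAut.conjNormal (q (C.b * r * C.b⁻¹)) = MulAut.conjNormal (q r)
      rw [map_mul, map_mul, map_mul, map_mul, hcommA (MulAut.conjNormal (q C.b)), mul_assoc,
        ← map_mul, ← map_mul, ← map_mul q C.b, mul_inv_cancel, map_one, mul_one]
    have hcentM : ∀ x ∈ C.R.map q, ∀ m ∈ M, x * m = m * x := by
      rintro _ ⟨r, hr, rfl⟩ m hm
      have := congrArg (fun f : MulAut M => ((f ⟨m, hm⟩ : M) : G ⧸ N)) (hχ ⟨r, hr⟩)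
      exact mul_inv_eq_iff_eq_mul.1 this
    -- b fixes M
    set β := MulAut.conjNormal (H := M) (q C.b) with hβ
    have hβ1 : β = 1 := by
      have h3 : β ^ 3 = 1 := by rw [hβ, ← map_pow, ← map_pow, C.hb3, map_one, map_one]
      have h4 : β ^ 4 = 1 := by
        apply (IsCyclic.mulAutMulEquiv M).injective
        rw [map_pow, map_one]
        generalize (IsCyclic.mulAutMulEquiv M) β = u
        revert u
        rw [hM5]
        decide
      rw [show (4 : ℕ) = 3 + 1 from rfl, pow_succ, h3, one_mul] at h4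
      exact h4
    have hbM : ∀ m ∈ M, q C.b * m * (q C.b)⁻¹ = m := fun m hm => by
      have := congrArg (fun f : MulAut M => ((f ⟨m, hm⟩ : M) : G ⧸ N)) hβ1
      exact this
    -- a Sylow 2-subgroup of the image is normal
    set Rq := C.R.map q with hRq
    haveI := hRn
    have hRqd : Nat.card Rq ∣ 2 ^ 9 * 5 := (Subgroup.card_map_dvd C.R q).trans hR5
    obtain ⟨T⟩ : Nonempty (Sylow 2 Rq) := inferInstance
    have hTtop : (T : Subgroup Rq) ⊔ M.subgroupOf Rq = ⊤ := by
      refine Subgroup.eq_top_of_card_eq _ (Nat.dvd_antisymm (Subgroup.card_subgroup_dvd_card _) ?_)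
      obtain ⟨t, ht⟩ := IsPGroup.iff_card.1 T.2
      have h1 : 5 ∣ Nat.card ((T : Subgroup Rq) ⊔ M.subgroupOf Rq : Subgroup Rq) := by
        rw [← hM5, ← Nat.card_congr (Subgroup.subgroupOfEquivOfLe hMR).toEquiv]
        exact Subgroup.card_dvd_of_le le_sup_right
      have h2 : Nat.card T ∣ Nat.card ((T : Subgroup Rq) ⊔ M.subgroupOf Rq : Subgroup Rq) :=
        Subgroup.card_dvd_of_le le_sup_left
      have h3 : Nat.card Rq ∣ Nat.card T * 5 := by
        have e := T.card_eq_multiplicity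
        obtain ⟨e5, he5⟩ : ∃ s, Nat.card Rq = 2 ^ (Nat.card Rq).factorization 2 * s ∧ ¬ 2 ∣ s :=
          ⟨_, (Nat.ordProj_mul_ordCompl_eq_self _ 2).symm, Nat.not_dvd_ordCompl Nat.prime_two Nat.card_pos.ne'⟩
        rw [e]
        refine (dvd_of_eq he5.1).trans (Nat.mul_dvd_mul_left _ ?_)
        have : e5 ∣ 2 ^ 9 * 5 := (Dvd.intro_left _ he5.1.symm).trans hRqd
        exact ((Nat.Prime.coprime_iff_not_dvd Nat.prime_two).2 he5.2).symm.pow_right 9 |>.dvd_of_dvd_mul_left this
      refine h3.trans (Nat.Coprime.mul_dvd_of_dvd_of_dvd ?_ h2 h1)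
      rw [ht]; exact Nat.Coprime.pow_left t (by norm_num)
    have hTn : (T : Subgroup Rq).Normal := by
      rw [← Subgroup.normalizer_eq_top_iff, eq_top_iff, ← hTtop]
      refine sup_le Subgroup.le_normalizer fun m hm => Subgroup.mem_normalizer_iff.2 fun x => ?_
      have : m * x * m⁻¹ = x := Subtype.ext (by
        show (m : G ⧸ N) * x * (m : G ⧸ N)⁻¹ = x
        rw [← hcentM x x.2 m (Subgroup.mem_subgroupOf.1 hm), mul_inv_cancel_right])
      rw [this]
    have hTmap : ((T : Subgroup Rq).map Rq.subtype).Normal :=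
      FittingCores.normal_map_of_characteristic hRn (T.characteristic_of_normal hTn)
    have hT1 : (T : Subgroup Rq) = ⊥ := by
      have hK : ((T : Subgroup Rq).map Rq.subtype).comap q ≤ N := FittingCores.le_pCore (hTmap.comap q) (by
        refine IsPGroup.comap_of_ker_isPGroup (T.2.map _) q ?_
        rw [hq, QuotientGroup.ker_mk']
        exact hN2)
      rw [← Subgroup.map_eq_bot_iff_of_injective _ Rq.subtype_injective,
        ← Subgroup.map_comap_eq_self_of_surjective (QuotientGroup.mk'_surjective N) ((T : Subgroup Rq).map Rq.subtype),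
        eq_bot_iff]
      exact (Subgroup.map_mono hK).trans (QuotientGroup.map_mk'_self N).le
    rw [hT1, bot_sup_eq, Subgroup.subgroupOf_eq_top] at hTtop
    let f : C.R →* G ⧸ N := q.comp C.R.subtype
    have hf := C.hom_kill f fun r => by
      show q (C.b * r * C.b⁻¹) = q r
      rw [map_mul, map_mul, map_inv]
      exact hbM _ (hTtop ⟨r, r.2, rfl⟩)
    exact hle fun x hx => (QuotientGroup.eq_one_iff x).1 (hf ⟨x, hx⟩)
  -- the final abelian subgroup
  have hzN : C.z ∈ N := hRN C.hzR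
  have hyN : C.toCfg.y ∈ N := hRN C.toCfg.y_mem
  set S : Set G := (ZN : Set G) ∪ {C.z, C.toCfg.y} with hS
  haveI hAc : IsMulCommutative (Subgroup.closure S) := Subgroup.isMulCommutative_closure (by
    rintro u (hu | rfl | rfl) v (hv | rfl | rfl)
    all_goals first
      | exact (Subgroup.mem_center_iff.1 (hZNc hu) _).symm
      | exact Subgroup.mem_center_iff.1 (hZNc hv) _
      | rfl
      | exact C.toCfg.zy
      | exact C.toCfg.zy.symm)
  have hbS : ∀ w ∈ S, C.b * w * C.b⁻¹ ∈ Subgroup.closure S := by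
    rintro w (hw | rfl | rfl)
    · rw [Subgroup.mem_center_iff.1 (hZNc hw) C.b, mul_inv_cancel_right]; exact Subgroup.subset_closure (Or.inl hw)
    · exact Subgroup.subset_closure (Or.inr (Or.inr rfl))
    · rw [C.toCfg.by']
      exact mul_mem (Subgroup.subset_closure (Or.inr (Or.inl rfl))) (Subgroup.subset_closure (Or.inr (Or.inr rfl)))
  have hbcl : ∀ w ∈ Subgroup.closure S, C.b * w * C.b⁻¹ ∈ Subgroup.closure S := by
    intro w hw
    induction hw using Subgroup.closure_induction with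
    | mem w hw => exact hbS w hw
    | one => simp
    | mul p r _ _ ihp ihr =>
      rw [show C.b * (p * r) * C.b⁻¹ = C.b * p * C.b⁻¹ * (C.b * r * C.b⁻¹) by simp [mul_assoc]]
      exact mul_mem ihp ihr
    | inv p _ ihp =>
      rw [show C.b * p⁻¹ * C.b⁻¹ = (C.b * p * C.b⁻¹)⁻¹ by simp [mul_assoc]]
      exact inv_mem ihp
  have hAN : Subgroup.closure S ≤ N := by
    rw [Subgroup.closure_le]
    rintro w (hw | rfl | rfl)
    exacts [hw.1, hzN, hyN]
  have hAn : (Subgroup.closure S).Normal := by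
    refine ⟨fun w hw g => ?_⟩
    refine C.mem_gen (P := fun g => ∀ w ∈ Subgroup.closure S, g * w * g⁻¹ ∈ Subgroup.closure S) ?_ hbcl ?_ ?_ g w hw
    · intro r hr w hw
      rw [show r * w * r⁻¹ = ⁅r, w⁆ * w by simp [commutatorElement_def]]
      exact mul_mem (Subgroup.subset_closure (Or.inl (hclass r (hRN hr) w (hAN hw)))) hw
    · intro w hw
      rw [inv_inv, C.conj_b_inv]
      exact hbcl _ (hbcl w hw)
    · intro x y hx hy w hw
      rw [show x * y * w * (x * y)⁻¹ = x * (y * w * y⁻¹) * x⁻¹ by simp [mul_assoc]]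
      exact hx _ (hy w hw)
  have hA := habel _ hAn hAN (fun u hu v hv => congrArg Subtype.val (mul_comm' (⟨u, hu⟩ : Subgroup.closure S) ⟨v, hv⟩))
    (Subgroup.subset_closure (Or.inr (Or.inl rfl)) : C.z ∈ _)
  exact C.hbz (by rw [Subgroup.mem_center_iff.1 hA C.b, mul_inv_cancel_right])

end Cfsg.Agent.CubicThree
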