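/-
A moved elementary abelian normal 2-subgroup makes the action monomial on three or four lines.
-/
import Mathlib
import Cfsg.Agent.Lib.CubicThree.CaseB

set_option autoImplicit false
set_option linter.style.haveILetI false

namespace Cfsg.Agent.CubicThree

open Module
open scoped commutatorElement

/-- An element acting as a three-cycle. -/
structure Tri {G : Type*} [Group G] {Ω : Type*} [MulAction G Ω] (g : G) (a b c : Ω) : Prop where
  ab : g • a = b
  bc : g • b = c
  ca : g • c = a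
  nab : a ≠ b
  nbc : b ≠ c
  nca : c ≠ a
  fix : ∀ w, w ≠ a → w ≠ b → w ≠ c → g • w = w

section Tri

variable {G : Type*} [Group G] {Ω : Type*} [MulAction G Ω] {g h : G} {a b c : Ω}

theorem Tri.rot (T : Tri g a b c) : Tri g b c a :=
  ⟨T.bc, T.ca, T.ab, T.nbc, T.nca, T.nab, fun w h1 h2 h3 => T.fix w h3 h1 h2⟩

theorem Tri.conj (T : Tri g a b c) (h : G) : Tri (h * g * h⁻¹) (h • a) (h • b) (h • c) := by
  have key : ∀ p : Ω, (h * g * h⁻¹) • h • p = h • g • p := fun p => by
    rw [← mul_smul, inv_mul_cancel_right, mul_smul]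
  refine ⟨by rw [key, T.ab], by rw [key, T.bc], by rw [key, T.ca], fun e => T.nab (smul_left_cancel h e),
    fun e => T.nbc (smul_left_cancel h e), fun e => T.nca (smul_left_cancel h e), fun w h1 h2 h3 => ?_⟩
  rw [← smul_inv_smul h w, key, T.fix]
  · exact fun e => h1 (by rw [← e, smul_inv_smul])
  · exact fun e => h2 (by rw [← e, smul_inv_smul])
  · exact fun e => h3 (by rw [← e, smul_inv_smul])

theorem Tri.inv_fix (T : Tri g a b c) {w : Ω} (h1 : w ≠ a) (h2 : w ≠ b) (h3 : w ≠ c) : g⁻¹ • w = w := by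
  rw [inv_smul_eq_iff, T.fix w h1 h2 h3]

/-- Two three-cycles meeting in one point have a commutator moving a point in a cycle of length three. -/
theorem Tri.meet {p q r s t : Ω} (T : Tri g p q r) (S : Tri h p s t) (hsq : s ≠ q) (hsr : s ≠ r) (htq : t ≠ q)
    (htr : t ≠ r) : ⁅g, h⁆ • p = q ∧ ⁅g, h⁆ • q = s ∧ ⁅g, h⁆ • s = p := by
  simp only [commutatorElement_def, mul_smul]
  refine ⟨?_, ?_, ?_⟩
  · rw [show h⁻¹ • p = t by rw [inv_smul_eq_iff, S.ca], T.inv_fix S.nca htq htr, S.ca, T.ab]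
  · rw [S.inv_fix T.nab.symm hsq.symm htq.symm, show g⁻¹ • q = p by rw [inv_smul_eq_iff, T.ab], S.ab,
      T.fix s S.nab.symm hsq hsr]
  · rw [show h⁻¹ • s = p by rw [inv_smul_eq_iff, S.ab], show g⁻¹ • p = r by rw [inv_smul_eq_iff, T.ca],
      S.fix r T.nca hsr.symm htr.symm, T.ca]

end Tri

variable {G : Type*} [Group G] [Finite G] {W : Type*} [AddCommGroup W] [Module (ZMod 3) W] [Finite W] (C : Act G W)

omit [Finite G] [Finite W] in
theorem Act.comm_mem_R (g h : G) : ⁅g * C.b * g⁻¹, h * C.b * h⁻¹⁆ ∈ C.R := by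
  haveI := C.normal
  set q := QuotientGroup.mk' C.R with hq
  have hcomm : ∀ x : G, q x * q C.b = q C.b * q x := by
    refine C.mem_gen (P := fun x => q x * q C.b = q C.b * q x) ?_ rfl ?_ ?_
    · intro r hr
      rw [show q r = 1 from (QuotientGroup.eq_one_iff r).2 hr, one_mul, mul_one]
    · rw [map_inv, inv_mul_cancel, mul_inv_cancel]
    · intro x y hx hy
      rw [map_mul, mul_assoc, hy, ← mul_assoc, hx, mul_assoc]
  have hconj : ∀ x : G, q (x * C.b * x⁻¹) = q C.b := fun x => by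
    rw [map_mul, map_mul, map_inv, hcomm, mul_inv_cancel_right]
  apply (QuotientGroup.eq_one_iff _).1
  rw [← QuotientGroup.mk'_apply, ← hq, map_commutatorElement, hconj, hconj, commutatorElement_self]

omit [Finite G] [Finite W] in
/-- Transitive actions in which `b` is a three-cycle have at most four points. -/
theorem Act.tri_bound {Ω : Type*} [MulAction G Ω] [MulAction.IsPretransitive G Ω] {q0 q1 q2 : Ω}
    (T : Tri C.b q0 q1 q2) :
    (∀ w, w = q0 ∨ w = q1 ∨ w = q2) ∨
      ∃ y, y ≠ q0 ∧ y ≠ q1 ∧ y ≠ q2 ∧ ∀ w, w = q0 ∨ w = q1 ∨ w = q2 ∨ w = y := by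
  classical
  let S : G → Finset Ω := fun g => {g • q0, g • q1, g • q2}
  have hmem : ∀ g w, w ∈ S g ↔ w = g • q0 ∨ w = g • q1 ∨ w = g • q2 := fun g w => by simp [S]
  have hcard : ∀ g, (S g).card = 3 := fun g => by
    have T' := T.conj g
    exact Finset.card_eq_three.2 ⟨_, _, _, T'.nab, T'.nca.symm, T'.nbc, rfl⟩
  have hrot : ∀ g p, p ∈ S g → ∃ q r, Tri (g * C.b * g⁻¹) p q r ∧ q ∈ S g ∧ r ∈ S g := by
    intro g p hp
    have T' := T.conj g
    rcases (hmem g p).1 hp with rfl | rfl | rfl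
    · exact ⟨_, _, T', by simp [hmem], by simp [hmem]⟩
    · exact ⟨_, _, T'.rot, by simp [hmem], by simp [hmem]⟩
    · exact ⟨_, _, T'.rot.rot, by simp [hmem], by simp [hmem]⟩
  have hmeet : ∀ g h p, p ∈ S g → p ∈ S h → ∃ w, w ≠ p ∧ w ∈ S g ∧ w ∈ S h := by
    intro g h p hg hh
    obtain ⟨q, r, Tg, hq, hr⟩ := hrot g p hg
    obtain ⟨s, t, Th, hs, ht⟩ := hrot h p hh
    by_contra hno
    push Not at hno
    have hsq : s ≠ q := fun e => hno q Tg.nab.symm hq (e ▸ hs)
    have hsr : s ≠ r := fun e => hno r Tg.nca hr (e ▸ hs)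
    have htq : t ≠ q := fun e => hno q Tg.nab.symm hq (e ▸ ht)
    have htr : t ≠ r := fun e => hno r Tg.nca hr (e ▸ ht)
    obtain ⟨h1, h2, h3⟩ := Tg.meet Th hsq hsr htq htr
    set c := ⁅g * C.b * g⁻¹, h * C.b * h⁻¹⁆ with hc
    have hper : ∀ m : ℕ, c ^ (3 * m) • p = p := by
      intro m
      induction m with
      | zero => simp
      | succ m ih =>
        rw [mul_add, mul_one, pow_add, mul_smul, pow_succ, pow_two, mul_smul, mul_smul, h1, h2, h3, ih]
    have hcop : (orderOf c).Coprime 3 :=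
      C.hRcop.coprime_dvd_left (Subgroup.orderOf_dvd_natCard _ (C.comm_mem_R g h))
    have hmod : orderOf c % 3 = 1 ∨ orderOf c % 3 = 2 := by
      have : ¬ 3 ∣ orderOf c := fun hd => by
        have := Nat.dvd_gcd hd (dvd_refl 3)
        rw [hcop.gcd_eq_one] at this
        norm_num at this
      omega
    have h0 : c ^ orderOf c • p = p := by rw [pow_orderOf_eq_one, one_smul]
    rw [← Nat.div_add_mod (orderOf c) 3] at h0
    rcases hmod with e | e <;> rw [e, add_comm, pow_add, mul_smul, hper] at h0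
    · rw [pow_one, h1] at h0; exact Tg.nab h0.symm
    · rw [pow_two, mul_smul, h1, h2] at h0; exact Th.nab h0.symm
  have hthree : ∀ g x y z, x ∈ S g → y ∈ S g → z ∈ S g → x ≠ y → x ≠ z → y ≠ z →
      ∀ w, w ∈ S g → w = x ∨ w = y ∨ w = z := by
    intro g x y z hx hy hz hxy hxz hyz w hw
    have e : ({x, y, z} : Finset Ω) = S g := by
      refine Finset.eq_of_subset_of_card_le ?_ (le_of_eq ?_)
      · intro u hu
        simp only [Finset.mem_insert, Finset.mem_singleton] at hu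
        rcases hu with rfl | rfl | rfl <;> assumption
      · rw [hcard]; exact (Finset.card_eq_three.2 ⟨x, y, z, hxy, hxz, hyz, rfl⟩).symm
    rw [← e] at hw
    simpa using hw
  have h1 : ∀ w, w ∈ S 1 ↔ w = q0 ∨ w = q1 ∨ w = q2 := fun w => by simp [hmem]
  -- invariance from the dichotomy
  have hinv : ∀ Q : Set Ω, (∀ w, w ∈ S 1 → w ∈ Q) →
      (∀ g, (∀ w ∈ S g, w ∈ Q) ∨ (∀ w ∈ S g, w ∉ Q)) → ∀ w, w ∈ Q := by
    intro Q hQ hdich
    let K : Subgroup G :=
      { carrier := {g | ∀ w, g • w ∈ Q ↔ w ∈ Q}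
        one_mem' := fun w => by rw [one_smul]
        mul_mem' := fun {a c} ha hc w => by rw [mul_smul, ha, hc]
        inv_mem' := fun {a} ha w => by rw [← ha (a⁻¹ • w), smul_inv_smul] }
    have hconjK : ∀ g : G, g * C.b * g⁻¹ ∈ K := by
      intro g w
      have T' := T.conj g
      by_cases hw : w ∈ S g
      · have hw' : (g * C.b * g⁻¹) • w ∈ S g := by
          rcases (hmem g w).1 hw with rfl | rfl | rfl
          · rw [T'.ab]; simp [hmem]
          · rw [T'.bc]; simp [hmem]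
          · rw [T'.ca]; simp [hmem]
        rcases hdich g with hd | hd
        · exact iff_of_true (hd _ hw') (hd _ hw)
        · exact iff_of_false (hd _ hw') (hd _ hw)
      · simp only [hmem, not_or] at hw
        rw [T'.fix w hw.1 hw.2.1 hw.2.2]
    have hbK : C.b ∈ K := by simpa using hconjK 1
    have hRK : C.R ≤ K := C.R_le fun r _ => by
      rw [commutatorElement_def]
      exact mul_mem (hconjK r) (inv_mem hbK)
    have hall : ∀ g : G, g ∈ K :=
      C.mem_gen (P := fun g => g ∈ K) hRK hbK (inv_mem hbK) fun x y hx hy => mul_mem hx hy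
    intro w
    obtain ⟨g, rfl⟩ := MulAction.exists_smul_eq G q0 w
    exact (hall g q0).2 (hQ q0 ((h1 q0).2 (Or.inl rfl)))
  by_cases hA : ∀ g p, p ∈ S g → p ∈ S 1 → ∀ w ∈ S g, w ∈ S 1
  · left
    intro w
    refine (h1 w).1 (hinv {w | w ∈ S 1} (fun _ h => h) (fun g => ?_) w)
    by_cases hm : ∃ p ∈ S g, p ∈ S 1
    · obtain ⟨p, hp, hp1⟩ := hm
      exact Or.inl (hA g p hp hp1)
    · push Not at hm
      exact Or.inr hm
  right
  let F : Ω → Ω → Prop := fun x y => ∃ g, ∀ w, w ∈ S g ↔ (w = y ∨ (w ∈ S 1 ∧ w ≠ x))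
  have hF : ∀ h p y, p ∈ S h → p ∈ S 1 → y ∈ S h → y ∉ S 1 → ∃ x ∈ S 1, F x y := by
    intro h p y hp hp1 hy hy1
    obtain ⟨w, hwp, hw, hw1⟩ := hmeet h 1 p hp hp1
    obtain ⟨x, hx, hxp, hxw⟩ : ∃ x ∈ S 1, x ≠ p ∧ x ≠ w := by
      by_contra hno
      push Not at hno
      have hsub : S 1 ⊆ {p, w} := fun u hu => by
        simp only [Finset.mem_insert, Finset.mem_singleton]
        exact or_iff_not_imp_left.2 (hno u hu)
      have := (Finset.card_le_card hsub).trans Finset.card_le_two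
      rw [hcard] at this
      omega
    have hpy : p ≠ y := fun e => hy1 (e ▸ hp1)
    have hwy : w ≠ y := fun e => hy1 (e ▸ hw1)
    refine ⟨x, hx, h, fun u => ⟨fun hu => ?_, ?_⟩⟩
    · rcases hthree h p w y hp hw hy hwp.symm hpy hwy u hu with rfl | rfl | rfl
      · exact Or.inr ⟨hp1, hxp.symm⟩
      · exact Or.inr ⟨hw1, hxw.symm⟩
      · exact Or.inl rfl
    · rintro (rfl | ⟨hu, hux⟩)
      · exact hy
      · rcases hthree 1 p w x hp1 hw1 hx hwp.symm hxp.symm hxw.symm u hu with rfl | rfl | rfl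
        exacts [hp, hw, absurd rfl hux]
  push Not at hA
  obtain ⟨g, p, hp, hp1, y, hy, hy1⟩ := hA
  have hby : C.b • y = y := by
    simp only [h1, not_or] at hy1
    exact T.fix y hy1.1 hy1.2.1 hy1.2.2
  have hFb : ∀ x, F x y → F (C.b • x) y := by
    rintro x ⟨g, hg⟩
    refine ⟨C.b * g, fun w => ?_⟩
    have e1 : ∀ k, w ∈ S (C.b * k) ↔ C.b⁻¹ • w ∈ S k := fun k => by
      simp only [hmem, mul_smul, inv_smul_eq_iff]
    have hS : ∀ u, u ∈ S (C.b * 1) ↔ u ∈ S 1 := fun u => by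
      simp only [hmem, mul_smul, one_smul, T.ab, T.bc, T.ca]
      tauto
    rw [e1, hg, ← e1, hS, inv_smul_eq_iff, hby, Ne, inv_smul_eq_iff]
  have hFall : ∀ x ∈ S 1, F x y := by
    obtain ⟨x, hx, hFx⟩ := hF g p y hp hp1 hy hy1
    rcases (h1 x).1 hx with e | e | e <;> subst e
    · have a := hFb _ hFx; rw [T.ab] at a
      have a' := hFb _ a; rw [T.bc] at a'
      intro u hu; rcases (h1 u).1 hu with rfl | rfl | rfl <;> assumption
    · have a := hFb _ hFx; rw [T.bc] at a
      have a' := hFb _ a; rw [T.ca] at a'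
      intro u hu; rcases (h1 u).1 hu with rfl | rfl | rfl <;> assumption
    · have a := hFb _ hFx; rw [T.ca] at a
      have a' := hFb _ a; rw [T.ab] at a'
      intro u hu; rcases (h1 u).1 hu with rfl | rfl | rfl <;> assumption
  have hy1' : y ≠ q0 ∧ y ≠ q1 ∧ y ≠ q2 := by simpa [h1] using hy1
  refine ⟨y, hy1'.1, hy1'.2.1, hy1'.2.2, fun w => ?_⟩
  have := hinv {w | w ∈ S 1 ∨ w = y} (fun _ h => Or.inl h) (fun h => ?_) w
  · rcases this with hw | hw
    · rcases (h1 w).1 hw with e | e | e <;> simp [e]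
    · simp [hw]
  by_cases hm : ∃ p ∈ S h, p ∈ S 1
  · obtain ⟨p', hp', hp1'⟩ := hm
    refine Or.inl fun u hu => or_iff_not_imp_left.2 fun hu1 => ?_
    by_contra huy
    obtain ⟨x', hx', h', hh'⟩ := hF h p' u hp' hp1' hu hu1
    -- another element of the family
    obtain ⟨x'', hx'', hne⟩ : ∃ x'' ∈ S 1, x'' ≠ x' := by
      by_contra hno
      push Not at hno
      have := hcard 1
      rw [Finset.eq_singleton_iff_unique_mem.2 ⟨hx', hno⟩, Finset.card_singleton] at this
      omega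
    obtain ⟨p0, hp0, hp0', hp0''⟩ : ∃ p0 ∈ S 1, p0 ≠ x' ∧ p0 ≠ x'' := by
      by_contra hno
      push Not at hno
      have hsub : S 1 ⊆ {x', x''} := fun v hv => by
        simp only [Finset.mem_insert, Finset.mem_singleton]
        exact or_iff_not_imp_left.2 (hno v hv)
      have := (Finset.card_le_card hsub).trans Finset.card_le_two
      rw [hcard] at this
      omega
    obtain ⟨g', hg'⟩ := hFall x'' hx''
    obtain ⟨v, hvp, hv1, hv2⟩ :=
      hmeet h' g' p0 ((hh' p0).2 (Or.inr ⟨hp0, hp0'⟩)) ((hg' p0).2 (Or.inr ⟨hp0, hp0''⟩))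
    rcases (hh' v).1 hv1 with rfl | ⟨hvS, hvx⟩
    · rcases (hg' v).1 hv2 with e | ⟨e, -⟩
      exacts [huy e, hu1 e]
    · rcases (hg' v).1 hv2 with e | ⟨-, hvx'⟩
      · exact hy1 (e ▸ hvS)
      · rcases hthree 1 x' x'' p0 hx' hx'' hp0 hne.symm hp0'.symm hp0''.symm v hvS with e | e | e
        exacts [hvx e, hvx' e, hvp e]
  · push Not at hm
    refine Or.inr fun u hu hQ => ?_
    rcases hQ with hu1 | rfl
    · exact hm u hu hu1
    obtain ⟨g', hg'⟩ := hFall q0 ((h1 q0).2 (Or.inl rfl))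
    obtain ⟨v, hvy, hv1, hv2⟩ := hmeet g' h u ((hg' u).2 (Or.inl rfl)) hu
    rcases (hg' v).1 hv1 with rfl | ⟨hvS, -⟩
    exacts [hvy rfl, hm v hv2 hvS]

/-- A monomial presentation on `n` lines. -/
structure Mono (C : Act G W) (n : ℕ) where
  e : Fin n → W
  ne : ∀ i, e i ≠ 0
  span : Submodule.span (ZMod 3) (Set.range e) = ⊤
  π : G →* Equiv.Perm (Fin n)
  c : G → Fin n → (ZMod 3)ˣ
  spec : ∀ g i, C.ρ g (e i) = (c g i : ZMod 3) • e (π g i)
  trans : ∀ i j, ∃ g, π g i = j
  fix : ∀ i : Fin n, (i : ℕ) = 3 → π C.b i = i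
  u : G
  v : G
  uR : u ∈ C.R
  vR : v ∈ C.R
  πu : π u = 1
  πv : π v = 1
  cu : ∀ i : Fin n, c u i = if (i : ℕ) = 1 ∨ (i : ℕ) = 2 then -1 else 1
  cv : ∀ i : Fin n, c v i = if (i : ℕ) = 0 ∨ (i : ℕ) = 2 then -1 else 1

theorem zmod3_smul_cancel {V : Type*} [AddCommGroup V] [Module (ZMod 3) V] {v : V} (hv : v ≠ 0) {a a' : ZMod 3}
    (h : a • v = a' • v) : a = a' := by
  haveI := fact_three
  exact smul_left_injective (ZMod 3) hv h

theorem zmod3_cases : ∀ x : ZMod 3, x * x = 1 → x = 1 ∨ x = -1 := by decide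

omit [Finite G] in
theorem Act.exists_mono_of_elementary {D : Subgroup G} (hDn : D.Normal) (hD2 : ∀ u ∈ D, u * u = 1)
    (hDc : ∀ u ∈ D, ∀ v ∈ D, u * v = v * u) (hDR : D ≤ C.R) {d : G} (hd : d ∈ D) (hmov : C.b * d * C.b⁻¹ ≠ d) :
    Nonempty (Mono C 3) ∨ Nonempty (Mono C 4) := by
  haveI := fact_three
  haveI : Module.Finite (ZMod 3) W := Module.Finite.of_finite
  set f : G → G := fun x => C.b * x * C.b⁻¹ with hf
  have hfD : ∀ x ∈ D, f x ∈ D := fun x hx => hDn.conj_mem x hx _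
  have hfmul : ∀ x y, f (x * y) = f x * f y := fun x y => by simp [f, mul_assoc]
  have hper : ∀ x, f (f (f x)) = x := fun x => by
    show C.b * (C.b * (C.b * x * C.b⁻¹) * C.b⁻¹) * C.b⁻¹ = x
    calc _ = (C.b * C.b * C.b) * x * (C.b * C.b * C.b)⁻¹ := by simp [mul_assoc]
      _ = x := by rw [C.hb3']; simp
  have hzD : d * f d ∈ D := mul_mem hd (hfD d hd)
  let C' : Cfg G W :=
    { C.toCfg with
      z := d * f d
      hzR := hDR hzD
      hz2 := hD2 _ hzD
      hbz := by
        intro h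
        replace h : f d * f (f d) = d * f d := (hfmul d (f d)).symm.trans h
        rw [hDc d hd _ (hfD d hd)] at h
        have h2 := congrArg f (mul_left_cancel h)
        rw [hper] at h2
        exact hmov h2.symm
      hcomm := hDc _ hzD _ (hDn.conj_mem _ hzD _)
      hbz2 := by
        show f (f (d * f d)) = d * f d * f (d * f d)
        rw [hfmul d (f d), hfmul (f d) (f (f d)), hper, mul_assoc d, ← mul_assoc (f d) (f d), hD2 _ (hfD d hd), one_mul]
        exact hDc _ (hfD _ (hfD d hd)) d hd }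
  have hzD' : C'.z ∈ D := hzD
  have hyD : C'.y ∈ D := hfD _ hzD
  obtain ⟨h11, hnn⟩ := zmod3_sign
  obtain ⟨l1, -, -, -⟩ := C'.finrank_facts
  obtain ⟨⟨e1, he1⟩, he0, hspan1⟩ := finrank_eq_one_iff'.1 l1
  have he10 : e1 ≠ 0 := fun h => he0 (Subtype.ext h)
  have hline : ∀ v ∈ C'.L 1 (-1), ∃ a : ZMod 3, v = a • e1 := fun v hv => by
    obtain ⟨a, ha⟩ := hspan1 ⟨v, hv⟩
    exact ⟨a, (congrArg Subtype.val ha).symm⟩
  let St : Subgroup G :=
    { carrier := {g | ∃ a : ZMod 3, C.ρ g e1 = a • e1}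
      one_mem' := ⟨1, by rw [map_one, one_smul]; rfl⟩
      mul_mem' := fun {g h} ⟨a, ha⟩ ⟨a', ha'⟩ => ⟨a' * a, by rw [rho_mul, ha', map_smul, ha, smul_smul]⟩
      inv_mem' := fun {g} ⟨a, ha⟩ => by
        have ha0 : a ≠ 0 := fun h => he10 (by
          rw [← rho_inv C.ρ g e1, ha, h, zero_smul, map_zero])
        refine ⟨a, ?_⟩
        calc C.ρ g⁻¹ e1 = (a * a) • C.ρ g⁻¹ e1 := by rw [zmod3_unit_sq a ha0, one_smul]
          _ = a • C.ρ g⁻¹ (a • e1) := by rw [map_smul, smul_smul]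
          _ = a • e1 := by conv_lhs => rw [← ha, rho_inv] }
  let e : G ⧸ St → W := fun q => C.ρ q.out e1
  have hene : ∀ q, e q ≠ 0 := fun q h => he10 (by rw [← rho_inv C.ρ q.out e1, show C.ρ q.out e1 = 0 from h, map_zero])
  have hsmul : ∀ (g : G) (q : G ⧸ St), g • q = ((g * q.out : G) : G ⧸ St) := fun g q => by
    conv_lhs => rw [← QuotientGroup.out_eq' q]
    rfl
  have hspec : ∀ g q, ∃ a : ZMod 3, C.ρ g (e q) = a • e (g • q) := by
    intro g q
    have hs : (g • q).out⁻¹ * (g * q.out) ∈ St := QuotientGroup.eq.1 (by rw [QuotientGroup.out_eq', hsmul])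
    obtain ⟨a, ha⟩ := hs
    refine ⟨a, ?_⟩
    show C.ρ g (C.ρ q.out e1) = a • C.ρ (g • q).out e1
    rw [← map_smul, ← ha, ← rho_mul, ← rho_mul, mul_inv_cancel_left]
  have hq0 : ∀ g q, C.ρ g (e q) ∈ C'.L 1 (-1) → g • q = ((1 : G) : G ⧸ St) := by
    intro g q hv
    obtain ⟨a, ha⟩ := hline _ hv
    rw [hsmul, QuotientGroup.eq, mul_one]
    refine inv_mem ⟨a, ?_⟩
    rw [rho_mul]; exact ha
  have heq : ∀ g q q' (a : ZMod 3), C.ρ g (e q) = a • e q' → g • q = q' := by
    intro g q q' a h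
    rw [hsmul]
    conv_rhs => rw [← QuotientGroup.out_eq' q']
    rw [QuotientGroup.eq]
    have : q'.out⁻¹ * (g * q.out) ∈ St := ⟨a, by
      rw [rho_mul, rho_mul, show C.ρ g (C.ρ q.out e1) = _ from h, map_smul, rho_inv]⟩
    simpa using inv_mem this
  have heig : ∀ u ∈ D, ∀ q, ∃ a : ZMod 3, a * a = 1 ∧ C.ρ u (e q) = a • e q := by
    intro u hu q
    have hu' : q.out⁻¹ * u * q.out ∈ D := by simpa using hDn.conj_mem u hu q.out⁻¹
    have hL : C.ρ (q.out⁻¹ * u * q.out) e1 ∈ C'.L 1 (-1) := by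
      obtain ⟨a1, a2⟩ := C'.mem_L.1 he1
      change C.ρ C'.z e1 = _ at a1
      change C.ρ C'.y e1 = _ at a2
      refine C'.mem_L.2 ⟨?_, ?_⟩
      · show C.ρ C'.z _ = _
        rw [← rho_mul, hDc _ hzD' _ hu', rho_mul, a1, map_smul]
      · show C.ρ C'.y _ = _
        rw [← rho_mul, hDc _ hyD _ hu', rho_mul, a2, map_smul]
    obtain ⟨a, ha⟩ := hline _ hL
    have hev : C.ρ u (e q) = a • e q := by
      show C.ρ u (C.ρ q.out e1) = a • C.ρ q.out e1
      rw [← map_smul, ← ha, ← rho_mul, ← rho_mul]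
      congr 2
      simp [mul_assoc]
    refine ⟨a, zmod3_smul_cancel (hene q) ?_, hev⟩
    rw [one_smul, ← smul_smul, ← hev, ← map_smul, ← hev, ← rho_mul, hD2 u hu, map_one]
    rfl
  set q0 : G ⧸ St := ((1 : G) : G ⧸ St) with hq0def
  set q1 : G ⧸ St := C.b • q0 with hq1def
  set q2 : G ⧸ St := C.b • q1 with hq2def
  have he0L : e q0 ∈ C'.L 1 (-1) := by
    have : q0.out ∈ St := by
      have := QuotientGroup.eq.1 (show ((1 : G) : G ⧸ St) = (q0.out : G ⧸ St) from (QuotientGroup.out_eq' q0).symm)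
      simpa using this
    obtain ⟨a, ha⟩ := this
    show C.ρ q0.out e1 ∈ _
    rw [ha]
    exact Submodule.smul_mem _ _ he1
  have hstep : ∀ q s t, e q ∈ C'.L s t → e (C.b • q) ∈ C'.L (s * t) s := by
    intro q s t hq
    obtain ⟨a, ha⟩ := hspec C.b q
    have h1 : C.ρ C.b (e q) ∈ C'.L (s * t) s := C'.b_L hq
    rw [ha] at h1
    have ha0 : a ≠ 0 := fun h => hene q (by rw [← rho_inv C.ρ C.b (e q), ha, h, zero_smul, map_zero])
    have := Submodule.smul_mem _ a h1
    rwa [smul_smul, zmod3_unit_sq a ha0, one_smul] at this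
  have he1L : e q1 ∈ C'.L (-1) 1 := by have := hstep q0 1 (-1) he0L; rwa [one_mul] at this
  have he2L : e q2 ∈ C'.L (-1) (-1) := by have := hstep q1 (-1) 1 he1L; rwa [mul_one] at this
  have hb3q : ∀ q : G ⧸ St, C.b • C.b • C.b • q = q := fun q => by
    rw [smul_smul, smul_smul, C.hb3', one_smul]
  have hclass : ∀ q, q = q0 ∨ q = q1 ∨ q = q2 ∨ (e q ∈ C'.L 1 1 ∧ C.b • q = q) := by
    intro q
    obtain ⟨s, hs, hzs⟩ := heig _ hzD' q
    obtain ⟨t, ht, hyt⟩ := heig _ hyD q
    have hq : e q ∈ C'.L s t := C'.mem_L.2 ⟨hzs, hyt⟩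
    rcases zmod3_cases s hs with rfl | rfl <;> rcases zmod3_cases t ht with rfl | rfl
    · refine Or.inr (Or.inr (Or.inr ⟨hq, ?_⟩))
      have hfixb : C.ρ C.b (e q) = e q := C'.b_fix hq
      exact heq C.b q q 1 (by rw [one_smul]; exact hfixb)
    · have := hq0 1 q (by rw [map_one]; exact hq)
      rw [one_smul] at this
      exact Or.inl this
    · have h1 := C'.b_L hq
      rw [mul_one] at h1
      have h2 := C'.b_L h1
      rw [hnn, ← rho_mul] at h2
      have := hq0 _ q h2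
      rw [mul_smul] at this
      refine Or.inr (Or.inl ?_)
      rw [hq1def, ← this, hb3q]
    · have h1 := C'.b_L hq
      rw [hnn] at h1
      have := hq0 _ q h1
      refine Or.inr (Or.inr (Or.inl ?_))
      rw [hq2def, hq1def, ← this, hb3q]
  have hsep : ∀ q s t s' t', s * s = 1 → t * t = 1 → s' * s' = 1 → t' * t' = 1 → e q ∈ C'.L s t →
      e q ∈ C'.L s' t' → s = s' ∧ t = t' := by
    intro q s t s' t' hs ht hs' ht' h h'
    by_contra hne
    exact hene q ((C'.P_self hs ht h).symm.trans (C'.P_other hs ht hs' ht' hne h'))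
  have h01 : q0 ≠ q1 := fun h => absurd (hsep q0 _ _ _ _ h11 hnn hnn h11 he0L (h.symm ▸ he1L)).1 (by decide)
  have h12 : q1 ≠ q2 := fun h => absurd (hsep q1 _ _ _ _ hnn h11 hnn hnn he1L (h.symm ▸ he2L)).2 (by decide)
  have h20 : q2 ≠ q0 := fun h => absurd (hsep q2 _ _ _ _ hnn hnn h11 hnn he2L (h.symm ▸ he0L)).1 (by decide)
  have hT : Tri C.b q0 q1 q2 := ⟨rfl, rfl, hb3q q0, h01, h12, h20, fun w a1 a2 a3 => by
    rcases hclass w with h | h | h | h
    exacts [absurd h a1, absurd h a2, absurd h a3, h.2]⟩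
  have hspanΩ : Submodule.span (ZMod 3) (Set.range e) = ⊤ := by
    refine (C.irr _ fun g v hv => ?_).resolve_left fun h => hene q0 ?_
    · induction hv using Submodule.span_induction with
      | mem x hx =>
        obtain ⟨q, rfl⟩ := hx
        obtain ⟨a, ha⟩ := hspec g q
        rw [ha]
        exact Submodule.smul_mem _ _ (Submodule.subset_span ⟨_, rfl⟩)
      | zero => rw [map_zero]; exact zero_mem _
      | add x y _ _ hx hy => rw [map_add]; exact add_mem hx hy
      | smul a x _ hx => rw [map_smul]; exact Submodule.smul_mem _ _ hx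
    · rw [← Submodule.mem_bot (ZMod 3), ← h]
      exact Submodule.subset_span ⟨_, rfl⟩
  have key : ∀ (n : ℕ) (F : Fin n ≃ G ⧸ St),
      (∀ i : Fin n, e (F i) ∈ C'.L (if (i : ℕ) = 1 ∨ (i : ℕ) = 2 then -1 else 1) (if (i : ℕ) = 0 ∨ (i : ℕ) = 2 then -1 else 1)) →
      (∀ i : Fin n, (i : ℕ) = 3 → C.b • F i = F i) → Nonempty (Mono C n) := by
    intro n F hval hfixF
    choose a ha using fun g i => hspec g (F i)
    have ha0 : ∀ g i, a g i ≠ 0 := fun g i h => hene (F i) (by
      rw [← rho_inv C.ρ g (e (F i)), ha, h, zero_smul, map_zero])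
    let π : G →* Equiv.Perm (Fin n) := F.symm.permCongrHom.toMonoidHom.comp (MulAction.toPermHom G (G ⧸ St))
    have hπ : ∀ g i, F (π g i) = g • F i := fun g i => by
      simp [π, Equiv.permCongrHom, Equiv.permCongr_apply]
    have hDπ : ∀ u ∈ D, π u = 1 := fun u hu => by
      refine Equiv.ext fun i => F.injective ?_
      obtain ⟨s, -, hs⟩ := heig u hu (F i)
      rw [hπ]
      exact heq u _ _ s hs
    have hcD : ∀ u ∈ D, ∀ i (s : ZMod 3), C.ρ u (e (F i)) = s • e (F i) → a u i = s := by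
      intro u hu i s hs
      have h := ha u i
      rw [heq u _ _ s hs, hs] at h
      exact (zmod3_smul_cancel (hene (F i)) h).symm
    refine ⟨{
      e := fun i => e (F i)
      ne := fun i => hene _
      span := by rw [show (fun i => e (F i)) = e ∘ F from rfl, F.surjective.range_comp]; exact hspanΩ
      π := π
      c := fun g i => Units.mk0 (a g i) (ha0 g i)
      spec := fun g i => by rw [hπ]; exact ha g i
      trans := fun i j => by
        obtain ⟨g, hg⟩ := MulAction.exists_smul_eq G (F i) (F j)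
        exact ⟨g, F.injective ((hπ g i).trans hg)⟩
      fix := fun i hi => F.injective ((hπ _ i).trans (hfixF i hi))
      u := C'.z
      v := C'.y
      uR := hDR hzD'
      vR := hDR hyD
      πu := hDπ _ hzD'
      πv := hDπ _ hyD
      cu := fun i => Units.ext ((hcD _ hzD' i _ (C'.mem_L.1 (hval i)).1).trans (by split_ifs <;> rfl))
      cv := fun i => Units.ext ((hcD _ hyD i _ (C'.mem_L.1 (hval i)).2).trans (by split_ifs <;> rfl)) }⟩
  rcases C.tri_bound hT with h3 | ⟨y, y0, y1, y2, h4⟩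
  · left
    refine key 3 (Equiv.ofBijective ![q0, q1, q2] ⟨?_, ?_⟩) ?_ ?_
    · intro i j hij
      fin_cases i <;> fin_cases j <;>
        first
          | rfl
          | exact absurd hij h01 | exact absurd hij h01.symm
          | exact absurd hij h12 | exact absurd hij h12.symm
          | exact absurd hij h20 | exact absurd hij h20.symm
    · intro w
      rcases h3 w with rfl | rfl | rfl
      exacts [⟨0, rfl⟩, ⟨1, rfl⟩, ⟨2, rfl⟩]
    · intro i
      fin_cases i
      exacts [he0L, he1L, he2L]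
    · intro i hi; omega
  · right
    have hy : e y ∈ C'.L 1 1 ∧ C.b • y = y := by
      rcases hclass y with h | h | h | h
      exacts [absurd h y0, absurd h y1, absurd h y2, h]
    refine key 4 (Equiv.ofBijective ![q0, q1, q2, y] ⟨?_, ?_⟩) ?_ ?_
    · intro i j hij
      fin_cases i <;> fin_cases j <;>
        first
          | rfl
          | exact absurd hij h01 | exact absurd hij h01.symm
          | exact absurd hij h12 | exact absurd hij h12.symm
          | exact absurd hij h20 | exact absurd hij h20.symm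
          | exact absurd hij y0 | exact absurd hij y0.symm
          | exact absurd hij y1 | exact absurd hij y1.symm
          | exact absurd hij y2 | exact absurd hij y2.symm
    · intro w
      rcases h4 w with rfl | rfl | rfl | rfl
      exacts [⟨0, rfl⟩, ⟨1, rfl⟩, ⟨2, rfl⟩, ⟨3, rfl⟩]
    · intro i
      fin_cases i
      exacts [he0L, he1L, he2L, hy.1]
    · intro i hi
      obtain rfl : i = 3 := Fin.ext hi
      exact hy.2

theorem Act.exists_mono : Nonempty (Mono C 3) ∨ Nonempty (Mono C 4) := by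
  obtain ⟨D, hDn, hD2, hDc, hDR, d, hd, hmov⟩ := C.exists_elementary
  exact C.exists_mono_of_elementary hDn hD2 hDc hDR hd hmov

end Cfsg.Agent.CubicThree
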