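/-
The monomial action forces a four-group or an extraspecial group of order thirty-two.
-/
import Mathlib
import Cfsg.Agent.Lib.CubicThree.Monomial
import Cfsg.Agent.Lib.LocalEven.Frattini
import Cfsg.Agent.Lib.Solvable.NilpotentFrattini
import Cfsg.Prelude.Def_Transfer

set_option autoImplicit false
set_option linter.style.haveILetI false

namespace Cfsg.Agent.CubicThree

open Module Equiv
open scoped commutatorElement

theorem perm3_even : ∀ σ : Equiv.Perm (Fin 3), Equiv.Perm.sign σ = 1 → σ ^ 3 = 1 := by decide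

theorem perm4_even : ∀ σ : Equiv.Perm (Fin 4), Equiv.Perm.sign σ = 1 → σ ^ 3 = 1 ∨ σ * σ = 1 := by decide

theorem perm4_list : ∀ σ : Equiv.Perm (Fin 4), Equiv.Perm.sign σ = 1 → σ * σ = 1 →
    σ = 1 ∨ σ = swap 0 1 * swap 2 3 ∨ σ = swap 0 2 * swap 1 3 ∨ σ = swap 0 3 * swap 1 2 := by decide

theorem perm4_value (σ : Equiv.Perm (Fin 4)) (h1 : Equiv.Perm.sign σ = 1) (h2 : σ * σ = 1) :
    σ = 1 ∨ (σ 0 = 1 ∧ σ 1 = 0 ∧ σ 2 = 3 ∧ σ 3 = 2) ∨ (σ 0 = 2 ∧ σ 1 = 3 ∧ σ 2 = 0 ∧ σ 3 = 1) ∨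
      (σ 0 = 3 ∧ σ 1 = 2 ∧ σ 2 = 1 ∧ σ 3 = 0) := by
  rcases perm4_list σ h1 h2 with rfl | rfl | rfl | rfl
  · exact Or.inl rfl
  · exact Or.inr (Or.inl ⟨rfl, rfl, rfl, rfl⟩)
  · exact Or.inr (Or.inr (Or.inl ⟨rfl, rfl, rfl, rfl⟩))
  · exact Or.inr (Or.inr (Or.inr ⟨rfl, rfl, rfl, rfl⟩))

theorem units3_sq : ∀ a : (ZMod 3)ˣ, a * a = 1 := by decide

theorem units3_cases : ∀ a : (ZMod 3)ˣ, a = 1 ∨ a = -1 := by decide

theorem units3_pair : ∀ a b c d : (ZMod 3)ˣ, a * b * c * d = 1 →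
    a * b = d * c ∧ a * c = d * b ∧ a * d = c * b := by decide

theorem units3_two : ∀ p : (ZMod 3)ˣ × (ZMod 3)ˣ, p = (1, 1) ∨ p = (1, -1) ∨ p = (-1, 1) ∨ p = (-1, -1) := by decide

theorem units3_three : ∀ p : (ZMod 3)ˣ × (ZMod 3)ˣ × (ZMod 3)ˣ, ∃ i j k : Fin 2,
    p = (1, -1, -1) ^ (i : ℕ) * (-1, 1, -1) ^ (j : ℕ) * (-1, -1, -1) ^ (k : ℕ) := by decide

theorem units3_third : ∀ a b c : (ZMod 3)ˣ, a * b * c = 1 → c = a * b := by decide

theorem units3_fourth : ∀ a b c d : (ZMod 3)ˣ, a * b * c * d = 1 → d = a * b * c := by decide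

variable {G : Type*} [Group G] [Finite G] {W : Type*} [AddCommGroup W] [Module (ZMod 3) W] [Finite W]
  {C : Act G W} {n : ℕ} (M : Mono C n)

omit [Finite G] [Finite W] in
theorem Mono.c_mul (g h : G) (i : Fin n) : M.c (g * h) i = M.c g (M.π h i) * M.c h i := by
  have e1 := M.spec (g * h) i
  rw [map_mul M.π, Equiv.Perm.mul_apply, rho_mul, M.spec h i, map_smul, M.spec g, smul_smul] at e1
  have := zmod3_smul_cancel (M.ne _) e1
  exact Units.ext (by rw [Units.val_mul, mul_comm]; exact this.symm)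

omit [Finite G] [Finite W] in
theorem Mono.c_one (i : Fin n) : M.c 1 i = 1 := by
  have h := M.c_mul 1 1 i
  rwa [mul_one, map_one, Equiv.Perm.one_apply, right_eq_mul] at h

omit [Finite G] [Finite W] in
theorem Mono.ext {x y : G} (hx : x ∈ C.R) (hy : y ∈ C.R) (hπ : M.π x = M.π y) (hc : ∀ i, M.c x i = M.c y i) :
    x = y := by
  have h : C.ρ x = C.ρ y := LinearMap.ext_on_range M.span fun i => by rw [M.spec, M.spec, hπ, hc]
  have h2 : C.ρ (x * y⁻¹) = 1 := by rw [map_mul, h, ← map_mul, mul_inv_cancel, map_one]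
  exact mul_inv_eq_one.1 (C.faith _ (mul_mem hx (inv_mem hy)) h2)

omit [Finite G] [Finite W] in
theorem Mono.sign_one {r : G} (hr : r ∈ C.R) : Equiv.Perm.sign (M.π r) = 1 := by
  have h := C.hom_kill ((Equiv.Perm.sign.comp M.π).comp C.R.subtype) (fun s => by
    show Equiv.Perm.sign (M.π (C.b * s * C.b⁻¹)) = Equiv.Perm.sign (M.π s)
    rw [map_mul, map_mul, map_mul, map_mul, mul_comm (Equiv.Perm.sign (M.π C.b)), mul_assoc, ← map_mul, ← map_mul,
      ← map_mul M.π C.b, mul_inv_cancel, map_one, mul_one]) ⟨r, hr⟩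
  simpa using h

/-- The product of the coefficients. -/
noncomputable def Mono.norm : G →* (ZMod 3)ˣ where
  toFun g := ∏ i, M.c g i
  map_one' := Finset.prod_eq_one fun i _ => M.c_one i
  map_mul' g h := by
    simp only [M.c_mul, Finset.prod_mul_distrib]
    rw [Equiv.prod_comp (M.π h) (fun i => M.c g i)]

omit [Finite G] [Finite W] in
theorem Mono.norm_one {r : G} (hr : r ∈ C.R) : ∏ i, M.c r i = 1 :=
  C.hom_kill (M.norm.comp C.R.subtype) (fun s => by
    show M.norm (C.b * s * C.b⁻¹) = M.norm s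
    rw [map_mul, map_mul, mul_comm (M.norm C.b), mul_assoc, ← map_mul, mul_inv_cancel, map_one, mul_one]) ⟨r, hr⟩

omit [Finite W] in
theorem Mono.cop {r : G} (hr : r ∈ C.R) (h3 : (M.π r) ^ 3 = 1) : M.π r = 1 := by
  have h1 : M.π r ^ orderOf r = 1 := by rw [← map_pow, pow_orderOf_eq_one, map_one]
  have := pow_gcd_eq_one.2 ⟨h1, h3⟩
  rwa [(C.hRcop.coprime_dvd_left (Subgroup.orderOf_dvd_natCard _ hr)).gcd_eq_one, pow_one] at this

omit [Finite W] in
theorem Mono.pi_three (M : Mono C 3) {r : G} (hr : r ∈ C.R) : M.π r = 1 :=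
  M.cop hr (perm3_even _ (M.sign_one hr))

omit [Finite W] in
theorem Mono.pi_four (M : Mono C 4) {r : G} (hr : r ∈ C.R) : M.π r * M.π r = 1 := by
  rcases perm4_even _ (M.sign_one hr) with h | h
  · rw [M.cop hr h, mul_one]
  · exact h

omit [Finite W] in
theorem Mono.shape_three (M : Mono C 3) :
    Cfsg.IsElementaryAbelian 2 C.R ∧ Nat.card C.R = 4 := by
  have hc : ∀ x ∈ C.R, ∀ y ∈ C.R, ∀ i, M.c (x * y) i = M.c x i * M.c y i := fun x _ y hy i => by
    rw [M.c_mul, M.pi_three hy]; rfl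
  have hcomm : ∀ x ∈ C.R, ∀ y ∈ C.R, x * y = y * x := fun x hx y hy =>
    M.ext (mul_mem hx hy) (mul_mem hy hx) (by rw [M.pi_three (mul_mem hx hy), M.pi_three (mul_mem hy hx)])
      fun i => by rw [hc x hx y hy, hc y hy x hx, mul_comm]
  have hsq : ∀ x ∈ C.R, x ^ 2 = 1 := fun x hx =>
    M.ext (pow_mem hx 2) (one_mem _) (by rw [M.pi_three (pow_mem hx 2), map_one]) fun i => by
      rw [pow_two, hc x hx x hx, units3_sq, M.c_one]
  refine ⟨⟨⟨⟨fun a b => Subtype.ext (hcomm _ a.2 _ b.2)⟩⟩, hsq⟩, ?_⟩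
  let F : C.R → (ZMod 3)ˣ × (ZMod 3)ˣ := fun x => (M.c x 0, M.c x 1)
  have hF : Function.Bijective F := by
    refine ⟨fun x y h => ?_, fun p => ?_⟩
    · simp only [F, Prod.mk.injEq] at h
      have hx := M.norm_one x.2
      have hy := M.norm_one y.2
      rw [Fin.prod_univ_three] at hx hy
      refine Subtype.ext (M.ext x.2 y.2 (by rw [M.pi_three x.2, M.pi_three y.2]) fun i => ?_)
      fin_cases i
      · exact h.1
      · exact h.2
      · exact (units3_third _ _ _ hx).trans ((congrArg₂ (· * ·) h.1 h.2).trans (units3_third _ _ _ hy).symm)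
    · rcases units3_two p with rfl | rfl | rfl | rfl
      · exact ⟨1, by simp [F, M.c_one]⟩
      · exact ⟨⟨M.u, M.uR⟩, by simp [F, M.cu]⟩
      · exact ⟨⟨M.v, M.vR⟩, by simp [F, M.cv]⟩
      · exact ⟨⟨M.u * M.v, mul_mem M.uR M.vR⟩, by simp [F, hc _ M.uR _ M.vR, M.cu, M.cv]⟩
  rw [Nat.card_eq_of_bijective F hF, Nat.card_prod, Nat.card_eq_fintype_card, ZMod.card_units]

omit [Finite W] in
theorem Mono.shape_four (M : Mono C 4) :
    Cfsg.IsExtraspecial 2 C.R ∧ Nat.card C.R = 32 ∧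
      ∃ A : Subgroup G, A ≤ C.R ∧ Cfsg.IsElementaryAbelian 2 A ∧ Nat.card A = 8 := by
  haveI := C.normal
  haveI : Fact (Nat.Prime 2) := ⟨Nat.prime_two⟩
  have hnorm : ∀ x ∈ C.R, M.c x 0 * M.c x 1 * M.c x 2 * M.c x 3 = 1 := fun x hx => by
    rw [← Fin.prod_univ_four (fun i => M.c x i)]; exact M.norm_one hx
  -- transitivity of R
  have hb3 : ∀ k : ℤ, M.π (C.b ^ k) 3 = 3 := fun k => by
    rw [map_zpow]
    exact Equiv.Perm.zpow_apply_eq_self_of_apply_eq_self (M.fix 3 rfl) k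
  have htr : ∀ i, ∃ r ∈ C.R, M.π r 3 = i := fun i => by
    obtain ⟨g, hg⟩ := M.trans 3 i
    have : g ∈ C.R ⊔ Subgroup.zpowers C.b := C.gen ▸ trivial
    obtain ⟨r, hr, y, hy, rfl⟩ := Subgroup.mem_sup_of_normal_left.1 this
    obtain ⟨k, rfl⟩ := Subgroup.mem_zpowers_iff.1 hy
    refine ⟨r, hr, ?_⟩
    rwa [map_mul, Equiv.Perm.mul_apply, hb3] at hg
  have htr' : ∀ i j, ∃ r ∈ C.R, M.π r i = j := fun i j => by
    obtain ⟨r, hr, h1⟩ := htr i
    obtain ⟨s, hs, h2⟩ := htr j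
    refine ⟨s * r⁻¹, mul_mem hs (inv_mem hr), ?_⟩
    rw [map_mul, Equiv.Perm.mul_apply, map_inv, ← h1, Equiv.Perm.inv_def, Equiv.symm_apply_apply, h2]
  have hone : ∀ x ∈ C.R, ∀ i, M.π x i = i → M.π x = 1 := fun x hx i hi => by
    rcases perm4_value _ (M.sign_one hx) (M.pi_four hx) with h | h | h | h
    · exact h
    all_goals (exfalso; obtain ⟨a0, a1, a2, a3⟩ := h; fin_cases i <;> simp_all)
  -- the element acting as minus one
  obtain ⟨r0, hr0, h30⟩ := htr 0
  have hσ : M.π r0 0 = 3 ∧ M.π r0 1 = 2 ∧ M.π r0 2 = 1 := by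
    rcases perm4_value _ (M.sign_one hr0) (M.pi_four hr0) with h | h | h | h
    · rw [h] at h30; exact absurd h30 (by decide)
    · rw [h30] at h; exact absurd h.2.2.2 (by decide)
    · rw [h30] at h; exact absurd h.2.2.2 (by decide)
    · exact ⟨h.1, h.2.1, h.2.2.1⟩
  set v' := r0 * M.v * r0⁻¹ with hv'
  have hv'R : v' ∈ C.R := mul_mem (mul_mem hr0 M.vR) (inv_mem hr0)
  have hπv' : M.π v' = 1 := by rw [hv', map_mul, map_mul, M.πv, mul_one, ← map_mul, mul_inv_cancel, map_one]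
  have hv'c : ∀ i, M.c v' (M.π r0 i) = M.c M.v i := fun i => by
    have h1 := M.c_mul v' r0 i
    have h2 := M.c_mul r0 M.v i
    rw [show v' * r0 = r0 * M.v by rw [hv', inv_mul_cancel_right]] at h1
    rw [h1, M.πv, Equiv.Perm.one_apply, mul_comm] at h2
    exact mul_left_cancel h2
  set ε := M.v * v' with hε
  have hεR : ε ∈ C.R := mul_mem M.vR hv'R
  have hπε : M.π ε = 1 := by rw [hε, map_mul, M.πv, hπv', mul_one]
  have hεc : ∀ i, M.c ε i = -1 := by
    have a0 := hv'c 0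
    have a1 := hv'c 1
    have a2 := hv'c 2
    have a3 := hv'c 3
    rw [hσ.1] at a0; rw [hσ.2.1] at a1; rw [hσ.2.2] at a2; rw [h30] at a3
    intro i
    rw [hε, M.c_mul, hπv', Equiv.Perm.one_apply]
    fin_cases i
    · show M.c M.v 0 * M.c v' 0 = -1
      rw [a3]; simp [M.cv]
    · show M.c M.v 1 * M.c v' 1 = -1
      rw [a2]; simp [M.cv]
    · show M.c M.v 2 * M.c v' 2 = -1
      rw [a1]; simp [M.cv]
    · show M.c M.v 3 * M.c v' 3 = -1
      rw [a0]; simp [M.cv]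
  have hε1 : ε ≠ 1 := fun h => by
    have := hεc 0
    rw [h, M.c_one] at this
    exact absurd this (by decide)
  have hεε : ε * ε = 1 := M.ext (mul_mem hεR hεR) (one_mem _) (by rw [map_mul, hπε, mul_one, map_one]) fun i => by
    rw [M.c_mul, hπε, Equiv.Perm.one_apply, units3_sq, M.c_one]
  have hεcomm : ∀ x ∈ C.R, x * ε = ε * x := fun x hx =>
    M.ext (mul_mem hx hεR) (mul_mem hεR hx) (by rw [map_mul M.π x ε, map_mul M.π ε x, hπε, mul_one, one_mul]) fun i => by
      rw [M.c_mul x ε, M.c_mul ε x, hπε, Equiv.Perm.one_apply, hεc, hεc, mul_comm]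
  have hsq : ∀ x ∈ C.R, x * x = 1 ∨ x * x = ε := by
    intro x hx
    have hc2 : ∀ i, M.c (x * x) i = M.c x (M.π x i) * M.c x i := fun i => M.c_mul x x i
    have hconst : ∀ i, M.c (x * x) i = M.c (x * x) 0 := by
      obtain ⟨q1, q2, q3⟩ := units3_pair _ _ _ _ (hnorm x hx)
      rcases perm4_value _ (M.sign_one hx) (M.pi_four hx) with h | ⟨a0, a1, a2, a3⟩ | ⟨a0, a1, a2, a3⟩ | ⟨a0, a1, a2, a3⟩
      · intro i; simp [hc2, h, units3_sq]
      all_goals
        intro i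
        fin_cases i <;> simp only [hc2, Fin.zero_eta, Fin.mk_one, Fin.reduceFinMk, a0, a1, a2, a3]
      all_goals first
        | exact mul_comm _ _
        | exact q1.symm.trans (mul_comm _ _)
        | exact q2.symm.trans (mul_comm _ _)
        | exact q3.symm.trans (mul_comm _ _)
        | exact (mul_comm _ _).trans (q1.symm.trans (mul_comm _ _))
        | exact (mul_comm _ _).trans (q2.symm.trans (mul_comm _ _))
        | exact (mul_comm _ _).trans (q3.symm.trans (mul_comm _ _))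
    rcases units3_cases (M.c (x * x) 0) with h | h
    · exact Or.inl (M.ext (mul_mem hx hx) (one_mem _) (by rw [map_mul, M.pi_four hx, map_one]) fun i => by
        rw [hconst, h, M.c_one])
    · exact Or.inr (M.ext (mul_mem hx hx) hεR (by rw [map_mul, M.pi_four hx, hπε]) fun i => by rw [hconst, h, hεc])
  -- the centre
  set ε' : C.R := ⟨ε, hεR⟩ with hε'
  have hεz : ε' ∈ Subgroup.center C.R := Subgroup.mem_center_iff.2 fun x => Subtype.ext (hεcomm x x.2)
  have hZ : Subgroup.center C.R = Subgroup.zpowers ε' := by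
    refine le_antisymm (fun x hx => ?_) (Subgroup.zpowers_le.2 hεz)
    have hcx : ∀ k ∈ C.R, k * (x : G) = x * k := fun k hk =>
      congrArg Subtype.val (Subgroup.mem_center_iff.1 hx ⟨k, hk⟩)
    have hsame : ∀ k ∈ C.R, M.π k = 1 → ∀ i, M.c k (M.π x i) = M.c k i := fun k hk hπk i => by
      have h := congrArg (fun g => M.c g i) (hcx k hk)
      simp only [M.c_mul, hπk, Equiv.Perm.one_apply] at h
      rw [mul_comm (M.c (x : G) i)] at h
      exact mul_right_cancel h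
    have hπx : M.π x = 1 := by
      refine hone x x.2 0 ?_
      have h1 := hsame _ M.uR M.πu 0
      have h2 := hsame _ M.vR M.πv 0
      rw [M.cu, M.cu] at h1
      rw [M.cv, M.cv] at h2
      revert h1 h2
      generalize M.π x 0 = j
      revert j
      decide
    have hcst : ∀ i, M.c x i = M.c x 3 := fun i => by
      obtain ⟨r, hr, hri⟩ := htr i
      have h := congrArg (fun g => M.c g 3) (hcx r hr)
      simp only [M.c_mul, hπx, Equiv.Perm.one_apply, hri] at h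
      rw [mul_comm (M.c (x : G) i)] at h
      exact (mul_left_cancel h).symm
    rcases units3_cases (M.c x 3) with h | h
    · have : x = 1 := Subtype.ext (M.ext x.2 (one_mem _) (by rw [hπx, OneMemClass.coe_one, map_one]) fun i => by rw [hcst, h, OneMemClass.coe_one, M.c_one])
      rw [this]; exact one_mem _
    · have : x = ε' := Subtype.ext (M.ext x.2 hεR (by rw [hπx, hπε]) fun i => by rw [hcst, h, hεc])
      rw [this]; exact Subgroup.mem_zpowers _
  have hord : orderOf ε' = 2 :=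
    orderOf_eq_prime (Subtype.ext (by simpa [pow_two] using hεε)) fun h => hε1 (congrArg Subtype.val h)
  have hZ2 : Nat.card (Subgroup.center C.R) = 2 := by rw [hZ, Nat.card_zpowers, hord]
  have hsqZ : ∀ x : C.R, x ^ 2 ∈ Subgroup.center C.R := fun x => by
    rcases hsq x x.2 with h | h
    · rw [show x ^ 2 = 1 from Subtype.ext (by simpa [pow_two] using h)]; exact one_mem _
    · rw [show x ^ 2 = ε' from Subtype.ext (by simpa [pow_two] using h)]; exact hεz
  have hcom : ∀ x y : C.R, ⁅x, y⁆ ∈ Subgroup.center C.R := fun x y => by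
    have e : ⁅x, y⁆ = (x * y) ^ 2 * (y⁻¹ * (x⁻¹) ^ 2 * y⁻¹⁻¹) * (y⁻¹) ^ 2 := by
      simp [commutatorElement_def, pow_two, mul_assoc]
    rw [e]
    exact mul_mem (mul_mem (hsqZ _) ((inferInstance : (Subgroup.center C.R).Normal).conj_mem _ (hsqZ _) _)) (hsqZ _)
  have hp : IsPGroup 2 C.R := fun x => ⟨2, by
    rcases hsq x x.2 with h | h <;> refine Subtype.ext ?_
    · rw [SubgroupClass.coe_pow, show (2 : ℕ) ^ 2 = 2 * 2 from rfl, pow_mul, pow_two (x : G), h, one_pow]; rfl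
    · rw [SubgroupClass.coe_pow, show (2 : ℕ) ^ 2 = 2 * 2 from rfl, pow_mul, pow_two (x : G), h, pow_two, hεε]; rfl⟩
  haveI : Group.IsNilpotent C.R := hp.isNilpotent
  have hder : commutator C.R = Subgroup.center C.R := by
    have hle : commutator C.R ≤ Subgroup.center C.R := by
      rw [commutator_def, Subgroup.commutator_le]
      exact fun x _ y _ => hcom x y
    refine Subgroup.eq_of_le_of_card_ge hle ?_
    rw [hZ2]
    refine (Subgroup.one_lt_card_iff_ne_bot _).2 fun h => ?_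
    have hu : (⟨M.u, M.uR⟩ : C.R) ∈ Subgroup.center C.R := Subgroup.mem_center_iff.2 fun x => by
      refine commutatorElement_eq_one_iff_mul_comm.1 ?_
      rw [← Subgroup.mem_bot, ← h, commutator_def]
      exact Subgroup.commutator_mem_commutator (Subgroup.mem_top _) (Subgroup.mem_top _)
    obtain ⟨r, hr, hr3⟩ := htr 1
    have hh := congrArg (fun g : C.R => M.c (g : G) 3) (Subgroup.mem_center_iff.1 hu ⟨r, hr⟩)
    simp only [Subgroup.coe_mul, M.c_mul, M.πu, Equiv.Perm.one_apply, hr3] at hh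
    rw [mul_comm (M.c M.u 1)] at hh
    have := mul_left_cancel hh
    rw [M.cu, M.cu] at this
    exact absurd this (by decide)
  have hfr : frattini C.R = Subgroup.center C.R :=
    le_antisymm (LEFrattini.frattini_le (p := 2) hcom hsqZ) (by rw [← hder]; exact SolvStruct.commutator_le_frattini _)
  -- the kernel
  let f : C.R →* Equiv.Perm (Fin 4) := M.π.comp C.R.subtype
  have hker : ∀ k : f.ker, M.π ((k : C.R) : G) = 1 := fun k => k.2
  let φ : f.ker →* (ZMod 3)ˣ × (ZMod 3)ˣ × (ZMod 3)ˣ :=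
    { toFun := fun k => (M.c ((k : C.R) : G) 0, M.c ((k : C.R) : G) 1, M.c ((k : C.R) : G) 2)
      map_one' := by simp [M.c_one]
      map_mul' := fun k l => by simp [M.c_mul, hker l] }
  have hφi : Function.Injective φ := fun k l h => by
    simp only [φ, MonoidHom.coe_mk, OneHom.coe_mk, Prod.mk.injEq] at h
    obtain ⟨h0, h1, h2⟩ := h
    refine Subtype.ext (Subtype.ext (M.ext k.1.2 l.1.2 ((hker k).trans (hker l).symm) fun i => ?_))
    fin_cases i
    · exact h0
    · exact h1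
    · exact h2
    · show M.c ((k : C.R) : G) 3 = M.c ((l : C.R) : G) 3
      rw [units3_fourth _ _ _ _ (hnorm _ k.1.2), units3_fourth _ _ _ _ (hnorm _ l.1.2), h0, h1, h2]
  have hφs : Function.Surjective φ := fun p => by
    obtain ⟨i, j, k, rfl⟩ := units3_three p
    refine ⟨⟨⟨M.u, M.uR⟩, M.πu⟩ ^ (i : ℕ) * ⟨⟨M.v, M.vR⟩, M.πv⟩ ^ (j : ℕ) * ⟨ε', hπε⟩ ^ (k : ℕ), ?_⟩
    rw [map_mul, map_mul, map_pow, map_pow, map_pow]
    congr 3 <;> simp [φ, M.cu, M.cv, hεc, hε']
  have h8 : Nat.card f.ker = 8 := by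
    rw [Nat.card_eq_of_bijective φ ⟨hφi, hφs⟩, Nat.card_prod, Nat.card_prod, Nat.card_eq_fintype_card, ZMod.card_units]
  have h4 : Nat.card f.range = 4 := by
    have hb : Function.Bijective (fun σ : f.range => (σ : Equiv.Perm (Fin 4)) 3) := by
      refine ⟨?_, fun i => ?_⟩
      · rintro ⟨_, x, rfl⟩ ⟨_, y, rfl⟩ h
        refine Subtype.ext ?_
        change M.π x 3 = M.π y 3 at h
        show M.π x = M.π y
        have h1 : M.π ((y : G)⁻¹ * x) = 1 := hone _ (mul_mem (inv_mem y.2) x.2) 3 (by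
          rw [map_mul, Equiv.Perm.mul_apply, h, map_inv, Equiv.Perm.inv_def, Equiv.symm_apply_apply])
        rw [map_mul, map_inv, inv_mul_eq_one] at h1
        exact h1.symm
      · obtain ⟨r, hr, h⟩ := htr i
        exact ⟨⟨M.π r, ⟨r, hr⟩, rfl⟩, h⟩
    rw [Nat.card_eq_of_bijective _ hb, Nat.card_fin]
  have h32 : Nat.card C.R = 32 := by
    rw [← f.ker.card_mul_index, Subgroup.index_ker, h8, h4]
  refine ⟨⟨⟨hp, hfr, hder⟩, hZ2⟩, h32, f.ker.map C.R.subtype, Subgroup.map_subtype_le _, ⟨⟨⟨?_⟩⟩, ?_⟩, ?_⟩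
  · rintro ⟨_, k, hk, rfl⟩ ⟨_, l, hl, rfl⟩
    exact Subtype.ext (congrArg (fun g : f.ker => ((g : C.R) : G))
      (hφi (by rw [map_mul, map_mul, mul_comm]) : (⟨k, hk⟩ : f.ker) * ⟨l, hl⟩ = ⟨l, hl⟩ * ⟨k, hk⟩))
  · rintro _ ⟨k, hk, rfl⟩
    exact congrArg (fun g : f.ker => ((g : C.R) : G))
      (hφi (by
        rw [map_pow, map_one, pow_two]
        exact Prod.ext (units3_sq _) (Prod.ext (units3_sq _) (units3_sq _))) : (⟨k, hk⟩ : f.ker) ^ 2 = 1)
  · rw [Subgroup.card_map_of_injective C.R.subtype_injective, h8]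

/-- The structure of the group. -/
theorem Act.shape :
    (Cfsg.IsElementaryAbelian 2 C.R ∧ Nat.card C.R = 4) ∨
      (Cfsg.IsExtraspecial 2 C.R ∧ Nat.card C.R = 32 ∧
        ∃ A : Subgroup G, A ≤ C.R ∧ Cfsg.IsElementaryAbelian 2 A ∧ Nat.card A = 8) := by
  rcases C.exists_mono with ⟨⟨M⟩⟩ | ⟨⟨M⟩⟩
  · exact Or.inl M.shape_three
  · exact Or.inr M.shape_four

end Cfsg.Agent.CubicThree
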